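import Cfsg.Agent.PGroups.Critical

/-!
2-groups without normal elementary abelian subgroups of order 8, with an odd-order group of
automorphisms without trivial quotient: generalities.
-/

set_option autoImplicit false

namespace Cfsg.Agent.H91.Scn

open Subgroup
open scoped commutatorElement

/-- The setting of S1904. -/
structure Ctx (X : Type*) [Group X] (A : Subgroup (MulAut X)) : Prop where
  two : IsPGroup 2 X
  odd : Odd (Nat.card A)
  gen : closure {g : X | ∃ φ ∈ A, ∃ x : X, g = x⁻¹ * φ x} = ⊤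
  nonab : ¬ IsMulCommutative X
  small : ∀ E : Subgroup X, E.Normal → IsMulCommutative E → (∀ x ∈ E, x ^ 2 = 1) → Nat.card E ≤ 4

variable {X : Type*} [Group X]

theorem inv_eq_self {u : X} (hu : u * u = 1) : u⁻¹ = u := inv_eq_of_mul_eq_one_right hu

theorem sq_closed_commutator {H D : Subgroup X} (h : ∀ x ∈ H, x * x ∈ D) {x y : X} (hx : x ∈ H)
    (hy : y ∈ H) : ⁅x, y⁆ ∈ D := by
  have : ⁅x, y⁆ = x * x * ((x⁻¹ * y) * (x⁻¹ * y)) * (y⁻¹ * y⁻¹) := by
    rw [commutatorElement_def]; group
  rw [this]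
  exact mul_mem (mul_mem (h x hx) (h _ (mul_mem (inv_mem hx) hy))) (h _ (inv_mem hy))

/-- An odd iterate cannot undo a transposition. -/
theorem eq_of_sq_fixed {φ : MulAut X} (hφ : Odd (orderOf φ)) {x : X} (h : φ (φ x) = x) : φ x = x := by
  obtain ⟨k, hk⟩ := hφ
  have h2 : ∀ n : ℕ, ((φ ^ 2) ^ n) x = x := by
    intro n
    induction n with
    | zero => simp
    | succ n ih => rw [pow_succ, MulAut.mul_apply, sq, MulAut.mul_apply, h, ← sq, ih]
  have h3 := DFunLike.congr_fun (pow_orderOf_eq_one φ) x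
  rw [hk, pow_succ, MulAut.mul_apply, pow_mul, MulAut.one_apply] at h3
  -- `(φ ^ 2) ^ k` fixes `φ x` as well
  have h4 : ∀ n : ℕ, ((φ ^ 2) ^ n) (φ x) = φ x := by
    intro n
    induction n with
    | zero => simp
    | succ n ih => rw [pow_succ, MulAut.mul_apply, sq, MulAut.mul_apply, h, ← sq, ih]
  rw [h4] at h3
  exact h3

/-- An odd automorphism fixing `η` and moving `d` to `d η` with `η² = 1` fixes `d`. -/
theorem eq_one_of_shift {φ : MulAut X} (hφ : Odd (orderOf φ)) {d η : X} (hd : φ d = d * η)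
    (hη : φ η = η) (h2 : η * η = 1) : η = 1 := by
  have h1 : φ (φ d) = d := by rw [hd, map_mul, hd, hη, mul_assoc, h2, mul_one]
  have h3 := eq_of_sq_fixed hφ h1
  rw [hd] at h3
  exact left_eq_mul.mp h3.symm

theorem card_union_le {W : Subgroup X} [Finite X] {u : X} (hu : u ∉ W) :
    Nat.card W < Nat.card ↥(W ⊔ zpowers u) := by
  by_contra hle
  have := eq_of_le_of_card_ge (le_sup_left : W ≤ W ⊔ zpowers u) (not_lt.mp hle)
  exact hu (by rw [this]; exact mem_sup_right (mem_zpowers u))

/-- Commutators of a closure are controlled by those of the generators. -/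
theorem commutator_mem_of_gens {C : Subgroup X} [C.Normal] {S : Set X}
    (h : ∀ a ∈ S, ∀ b ∈ S, ⁅a, b⁆ ∈ C) {x y : X} (hx : x ∈ closure S) (hy : y ∈ closure S) :
    ⁅x, y⁆ ∈ C := by
  rw [← QuotientGroup.eq_one_iff]
  show QuotientGroup.mk' C ⁅x, y⁆ = 1
  rw [map_commutatorElement, commutatorElement_eq_one_iff_commute]
  have h1 : ∀ a ∈ S, ∀ b ∈ S, Commute (QuotientGroup.mk' C a) (QuotientGroup.mk' C b) := fun a ha b hb => by
    rw [← commutatorElement_eq_one_iff_commute, ← map_commutatorElement]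
    exact (QuotientGroup.eq_one_iff _).mpr (h a ha b hb)
  have h2 : closure (QuotientGroup.mk' C '' S) ≤
      centralizer (closure (QuotientGroup.mk' C '' S) : Set (X ⧸ C)) := by
    rw [centralizer_closure, closure_le]
    rintro _ ⟨a, ha, rfl⟩
    refine mem_centralizer_iff.mpr ?_
    rintro _ ⟨b, hb, rfl⟩
    exact (h1 b hb a ha).eq
  rw [← MonoidHom.map_closure] at h2
  exact (mem_centralizer_iff.mp (h2 (mem_map_of_mem _ hy)) _ (mem_map_of_mem _ hx))

/-- A central subgroup is normal. -/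
theorem normal_of_central {C : Subgroup X} (h : ∀ w ∈ C, ∀ g : X, Commute g w) : C.Normal :=
  ⟨fun w hw g => by rwa [(h w hw g).eq, mul_inv_cancel_right]⟩

/-- A four-group is generated by two of its involutions. -/
theorem mem_four {W : Subgroup X} (hcard : Nat.card W = 4) (hW : ∀ w ∈ W, w * w = 1) {a b : X}
    (ha : a ∈ W) (hb : b ∈ W) (ha1 : a ≠ 1) (hb1 : b ≠ 1) (hab : a ≠ b) {w : X} (hw : w ∈ W) :
    w = 1 ∨ w = a ∨ w = b ∨ w = a * b := by
  have h1 : a * b ≠ 1 := fun h => hab (by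
    rw [mul_eq_one_iff_eq_inv, inv_eq_self (hW b hb)] at h; exact h)
  have hs : ({1, a, b, a * b} : Set X) ⊆ W := by
    rintro x (rfl | rfl | rfl | rfl)
    exacts [one_mem _, ha, hb, mul_mem ha hb]
  have hn : ({1, a, b, a * b} : Set X).ncard = 4 := by
    rw [Set.ncard_insert_of_notMem (by simp [Ne.symm ha1, Ne.symm hb1, Ne.symm h1]) (Set.toFinite _),
      Set.ncard_insert_of_notMem (by simp [hab, hb1]) (Set.toFinite _),
      Set.ncard_pair (by simp [ha1])]
  have hfin : (W : Set X).Finite := Set.finite_coe_iff.mp (Nat.finite_of_card_ne_zero (by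
    rw [SetLike.coe_sort_coe, hcard]; norm_num))
  have := Set.eq_of_subset_of_ncard_le hs (by
    rw [hn, ← Nat.card_coe_set_eq, SetLike.coe_sort_coe, hcard]) hfin
  have hw' : w ∈ ({1, a, b, a * b} : Set X) := this ▸ hw
  simpa using hw'

namespace Ctx

variable [Finite X] {A : Subgroup (MulAut X)} (c : Ctx X A)
include c

theorem odd_orderOf {φ : MulAut X} (hφ : φ ∈ A) : Odd (orderOf φ) :=
  c.odd.of_dvd_nat (Subgroup.orderOf_dvd_natCard A hφ)

omit [Finite X] in
/-- Nothing invariant: a subgroup containing all `x⁻¹ φ x` is everything. -/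
theorem eq_top_of_gen {H : Subgroup X} (h : ∀ φ ∈ A, ∀ x : X, x⁻¹ * φ x ∈ H) : H = ⊤ := by
  rw [eq_top_iff, ← c.gen, closure_le]
  rintro g ⟨φ, hφ, x, rfl⟩
  exact h φ hφ x

omit [Finite X] in
/-- An invariant homomorphism is trivial. -/
theorem hom_eq_one {M : Type*} [Group M] (f : X →* M) (h : ∀ φ ∈ A, ∀ x : X, f (φ x) = f x) (x : X) :
    f x = 1 := by
  have : f.ker = ⊤ := c.eq_top_of_gen fun φ hφ x => by
    rw [MonoidHom.mem_ker, map_mul, map_inv, h φ hφ, inv_mul_cancel]
  exact MonoidHom.mem_ker.mp (this ▸ mem_top x)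

/-- No invariant subgroup of index two. -/
theorem false_of_index_two {B : Subgroup X} (hB : B.index = 2) (hinv : ∀ φ ∈ A, ∀ b ∈ B, φ b ∈ B) :
    False := by
  have : B = ⊤ := by
    refine c.eq_top_of_gen fun φ hφ x => ?_
    rw [mul_mem_iff_of_index_two hB, inv_mem_iff]
    refine ⟨fun hx => hinv φ hφ x hx, fun hx => ?_⟩
    have := hinv φ⁻¹ (inv_mem hφ) _ hx
    rwa [MulAut.inv_apply, MulEquiv.symm_apply_apply] at this
  rw [this, index_top] at hB
  omega

omit [Finite X] in
/-- An element fixed by `A` lies in the derived group. -/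
theorem mem_commutator_of_fixed {d : X} (hd : ∀ φ ∈ A, φ d = d) [Finite A] (h2 : ∃ n, d ^ 2 ^ n = 1) :
    d ∈ commutator X := by
  classical
  haveI := Fintype.ofFinite A
  let f : X →* Abelianization X :=
    ∏ φ : A, Abelianization.of.comp ((φ : MulAut X) : X ≃* X).toMonoidHom
  have hf : ∀ x, f x = ∏ φ : A, Abelianization.of ((φ : MulAut X) x) := fun x => by
    simp [f, MonoidHom.finsetProd_apply]
  have h1 := c.hom_eq_one f (fun φ hφ x => by
    rw [hf, hf]
    exact Fintype.prod_equiv (Equiv.mulRight ⟨φ, hφ⟩) _ _ fun ψ => by simp) d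
  rw [hf] at h1
  simp only [fun φ : A => hd φ φ.2, Finset.prod_const, Finset.card_univ] at h1
  rw [← Nat.card_eq_fintype_card] at h1
  obtain ⟨n, hn⟩ := h2
  have h3 : orderOf (Abelianization.of d) ∣ Nat.card A := orderOf_dvd_of_pow_eq_one h1
  have h4 : orderOf (Abelianization.of d) ∣ 2 ^ n :=
    orderOf_dvd_of_pow_eq_one (by rw [← map_pow, hn, map_one])
  have hcop : Nat.Coprime (Nat.card A) (2 ^ n) := (Nat.coprime_two_right.mpr c.odd).pow_right n
  have h5 := orderOf_eq_one_iff.mp (Nat.eq_one_of_dvd_coprimes hcop h3 h4)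
  exact (QuotientGroup.eq_one_iff d).mp h5

omit [Finite X] in
/-- `X` centralises what `A` fixes, if it is normal. -/
theorem commute_of_fixed {D : Subgroup X} [D.Normal] (hD : ∀ φ ∈ A, ∀ d ∈ D, φ d = d) {d : X}
    (hd : d ∈ D) (x : X) : Commute x d := by
  have : centralizer (D : Set X) = ⊤ := c.eq_top_of_gen fun φ hφ y => by
    refine mem_centralizer_iff.mpr fun v hv => ?_
    have h1 := hD φ hφ _ (Normal.conj_mem ‹_› v hv y)
    rw [map_mul, map_mul, map_inv, hD φ hφ v hv] at h1
    calc v * (y⁻¹ * φ y) = y⁻¹ * (y * v * y⁻¹) * φ y := by group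
      _ = y⁻¹ * φ y * v := by rw [← h1]; group
  exact (mem_centralizer_iff.mp (this ▸ mem_top x) d hd).symm

/-- A noncentral involution cannot be central modulo a central four-group. -/
theorem mem_of_involution {W : Subgroup X} (hW : IsMulCommutative W) (hW2 : ∀ w ∈ W, w ^ 2 = 1)
    (hcard : Nat.card W = 4) (hcen : ∀ w ∈ W, ∀ g : X, Commute g w) {u : X} (hu : u * u = 1)
    (hnorm : ∀ g : X, u⁻¹ * (g * u * g⁻¹) ∈ W) : u ∈ W := by
  by_contra huW
  haveI := hW
  haveI : W.Normal := ⟨fun w hw g => by rwa [(hcen w hw g).eq, mul_inv_cancel_right]⟩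
  set E := W ⊔ zpowers u with hE
  have hle : E ≤ centralizer (E : Set X) := by
    have h1 : ∀ g ∈ E, Commute g u := by
      intro g hg
      refine mem_centralizer_singleton_iff.mp ((sup_le ?_ (zpowers_le.mpr ?_) : E ≤ centralizer {u}) hg)
      · exact fun w hw => mem_centralizer_singleton_iff.mpr (hcen w hw u).eq.symm
      · exact mem_centralizer_singleton_iff.mpr rfl
    refine sup_le (fun w hw => mem_centralizer_iff.mpr fun g _ => (hcen w hw g).eq)
      (zpowers_le.mpr (mem_centralizer_iff.mpr fun g hg => (h1 g hg).eq))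
  have hcomm : IsMulCommutative E :=
    PGroups.isMulCommutative_of_comm fun a ha b hb => mem_centralizer_iff.mp (hle hb) a ha
  have hn : E.Normal := by
    refine ⟨fun n hn g => ?_⟩
    suffices E ≤ E.comap (MulAut.conj g).toMonoidHom by exact this hn
    refine sup_le (fun w hw => ?_) (zpowers_le.mpr ?_)
    · show g * w * g⁻¹ ∈ E
      rw [(hcen w hw g).eq, mul_inv_cancel_right]
      exact mem_sup_left hw
    · show g * u * g⁻¹ ∈ E
      have := mul_mem (mem_sup_right (S := W) (mem_zpowers u)) (mem_sup_left (hnorm g))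
      rwa [mul_inv_cancel_left] at this
  have hsq : ∀ x ∈ E, x ^ 2 = 1 := by
    intro x hx
    obtain ⟨w, hw, v, hv, rfl⟩ := mem_sup_of_normal_left.mp hx
    obtain ⟨i, rfl⟩ := mem_zpowers_iff.mp hv
    rw [(hcen w hw (u ^ i)).symm.mul_pow, hW2 w hw, one_mul, ← zpow_natCast, ← zpow_mul, mul_comm,
      zpow_mul, zpow_natCast, sq, hu, one_zpow]
  exact absurd (c.small E hn hcomm hsq) (not_le.mpr (hcard ▸ card_union_le huW))

end Ctx

end Cfsg.Agent.H91.Scn
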