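import Cfsg.Agent.H91.Scn.Levels

/-!
A noncentral self-centralising homocyclic subgroup has exponent four.
-/

set_option autoImplicit false

namespace Cfsg.Agent.H91.Scn

open Subgroup
open scoped commutatorElement

namespace Level

variable {X : Type*} [Group X] [Finite X] {A : Subgroup (MulAut X)}
variable (c : Ctx X A) {D W : Subgroup X} {a : ℕ} {ψ : MulAut X} (L : Level A D W a ψ)
include c L

/-- Squares lie in the central four-group, and so does the centre. -/
theorem result (hnc : ∃ x, x ∉ D) : (∀ x : X, x * x ∈ W) ∧ ∀ z : X, (∀ g, Commute g z) → z ∈ W := by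
  obtain ⟨i, hia, hspec, ⟨x₀, hx₀⟩, hinj, hnid⟩ := L.level_data c hnc
  have ha := L.two
  -- fixed points of a mover are squares
  have hfix : ∀ x, (¬ ∀ t ∈ D, Commute x (t ^ 2 ^ i)) → ∀ v ∈ D, Commute x v →
      ∃ s ∈ D, s * s = v := by
    intro x hx v hv hc
    exact L.sq_of_ker hv (hinj x hx v hv (commutatorElement_eq_one_iff_commute.mpr (hc.pow_right _)))
  -- squaring a member of `S (i+1)` lands in `S i`
  have hsqS : ∀ (y : X) (k : ℕ), (∀ t ∈ D, Commute y (t ^ 2 ^ (k + 1))) → k + 1 ≤ a - 1 →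
      ∀ t ∈ D, Commute (y * y) (t ^ 2 ^ k) := by
    intro y k hy _ t ht
    have hm := L.pred_mem hy ht
    rw [← commutatorElement_eq_one_iff_commute, L.homo.comm_sq_left (pow_mem ht _),
      commutatorElement_eq_one_iff_commute.mpr (L.cen _ hm y), one_mul, L.sqW _ hm]
  rcases eq_or_lt_of_le (show 2 ≤ a from ha) with ha2 | ha3
  · -- exponent four
    have hi0 : i = 0 := by omega
    subst hi0
    have hWsq : ∀ v ∈ D, v * v ∈ W := by
      intro v hv
      have := L.pow_top_mem hv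
      rwa [← ha2, show 2 - 1 = 1 from rfl, pow_one, sq] at this
    have hnot : ∀ x, x ∉ D → ¬ ∀ t ∈ D, Commute x (t ^ 2 ^ 0) := fun x hx => L.not_all_zero hx
    refine ⟨fun x => ?_, fun z hz => ?_⟩
    · by_cases hxD : x ∈ D
      · exact hWsq x hxD
      have hxx : x * x ∈ D := L.self _ fun d hd => by
        have := hsqS x 0 (hspec x) (by omega) d hd
        simpa using this
      obtain ⟨s, hs, hst⟩ := hfix x (hnot x hxD) _ hxx ((Commute.refl x).mul_right (Commute.refl x))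
      rw [← hst]
      exact hWsq s hs
    · have hzD : z ∈ D := L.self z fun d _ => (hz d).symm
      obtain ⟨x, hx⟩ := hnc
      obtain ⟨s, hs, hst⟩ := hfix x (hnot x hx) z hzD (hz x)
      rw [← hst]
      exact hWsq s hs
  exfalso
  -- descend along powers of `x₀`
  have hdesc : ∀ m ≤ i, ∃ n : ℕ, (∀ t ∈ D, Commute (x₀ ^ n) (t ^ 2 ^ (i - m + 1))) ∧
      (∃ t ∈ D, ¬ Commute (x₀ ^ n) (t ^ 2 ^ (i - m))) ∧ (m = 0 → x₀ ^ n = x₀) := by
    intro m
    induction m with
    | zero =>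
      intro _
      refine ⟨1, fun t ht => by rw [pow_one]; simpa using hspec x₀ t ht, ?_, fun _ => pow_one x₀⟩
      rw [pow_one, Nat.sub_zero]
      push Not at hx₀
      exact hx₀
    | succ m ih =>
      intro hm
      obtain ⟨n, hn1, hn2, hn3⟩ := ih (by omega)
      refine ⟨n + n, ?_, ?_, fun h => by omega⟩
      · intro t ht
        rw [pow_add]
        have := hsqS _ (i - m) hn1 (by omega) t ht
        rwa [show i - (m + 1) + 1 = i - m by omega]
      set y := x₀ ^ n with hy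
      rw [pow_add, show i - (m + 1) = i - m - 1 by omega]
      set k := i - m - 1 with hk
      have hk1 : i - m = k + 1 := by omega
      rw [hk1] at hn1 hn2
      have hstep : ∀ t ∈ D, ⁅y * y, t ^ 2 ^ k⁆ =
          ⁅y, ⁅y, t ^ 2 ^ k⁆⁆ * ⁅y, t ^ 2 ^ (k + 1)⁆ := by
        intro t ht
        rw [L.homo.comm_sq_left (pow_mem ht _), pow_succ 2 k, pow_mul,
          L.homo.comm_pow_right (pow_mem ht _) 2, sq]
      -- `⁅y, t ^ 2 ^ k⁆` has order dividing four
      have hfour : ∀ t ∈ D, ∃ s ∈ D, s ^ 2 ^ (a - 2) = ⁅y, t ^ 2 ^ k⁆ ∧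
          s ^ 2 ^ (a - 1) = ⁅y, t ^ 2 ^ (k + 1)⁆ := by
        intro t ht
        have hη : ⁅y, t ^ 2 ^ k⁆ ^ 2 = ⁅y, t ^ 2 ^ (k + 1)⁆ := by
          rw [pow_succ 2 k, pow_mul, L.homo.comm_pow_right (pow_mem ht _) 2]
        obtain ⟨s, hs, hst⟩ := L.homo.eq_pow (j := 2) ha _ (L.homo.comm_mem (x := y) (pow_mem ht (2 ^ k)))
          (by rw [show (2 : ℕ) ^ 2 = 2 * 2 from rfl, pow_mul, hη, sq, L.sqW _ (L.pred_mem hn1 ht)])
        refine ⟨s, hs, hst, ?_⟩
        rw [← hη, ← hst, ← pow_mul, ← pow_succ, show a - 2 + 1 = a - 1 by omega]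
      by_cases hlow : k + 4 ≤ a
      · obtain ⟨t, ht, hne⟩ := hn2
        refine ⟨t, ht, fun hc => hne (commutatorElement_eq_one_iff_commute.mp ?_)⟩
        obtain ⟨s, hs, hst, -⟩ := hfour t ht
        have h1 := hstep t ht
        rw [commutatorElement_eq_one_iff_commute.mpr hc] at h1
        have h2 : ⁅y, ⁅y, t ^ 2 ^ k⁆⁆ = 1 := by
          rw [← hst, commutatorElement_eq_one_iff_commute,
            show a - 2 = (a - k - 4) + (k + 1 + 1) by omega, pow_add, pow_mul]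
          exact hn1 _ (pow_mem hs _)
        rw [h2, one_mul] at h1
        exact h1.symm
      · -- the first step, with `i + 2 = a`
        have hm0 : m = 0 := by omega
        have hyx : y = x₀ := hn3 hm0
        have hik : k + 1 = i := by omega
        have hiv : i = a - 2 := by omega
        have hnx : ¬ ∀ t ∈ D, Commute y (t ^ 2 ^ i) := by rw [hyx]; exact hx₀
        obtain ⟨t, ht, hne⟩ := hnid y hnx
        refine ⟨t, ht, fun hc => hne ?_⟩
        obtain ⟨s, hs, hst, hst'⟩ := hfour t ht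
        have h1 := hstep t ht
        rw [commutatorElement_eq_one_iff_commute.mpr hc, ← hst, ← hiv, hik] at h1
        rw [hik] at hst'
        have hw1 : ⁅y, t ^ 2 ^ i⁆ ∈ W := L.pred_mem (hspec y) ht
        have hw2 : ⁅y, s ^ 2 ^ i⁆ ∈ W := L.pred_mem (hspec y) hs
        -- so `s` and `t` have the same image
        have h2 : ⁅y, s ^ 2 ^ i⁆ = ⁅y, t ^ 2 ^ i⁆ := by
          rw [eq_inv_of_mul_eq_one_left h1.symm, inv_eq_self (L.sqW _ hw1)]
        have h3 : (s * t) ^ 2 ^ (a - 1) = 1 := by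
          refine hinj y hnx _ (mul_mem hs ht) ?_
          rw [L.homo.pow_mul_pow hs ht, L.homo.comm_mul_right (pow_mem hs _) (pow_mem ht _), h2,
            L.sqW _ hw1]
        rw [L.homo.pow_mul_pow hs ht, hst'] at h3
        rw [eq_inv_of_mul_eq_one_left h3, inv_eq_self (L.sqW _ (L.pow_top_mem ht))]
  obtain ⟨n, hn1, hn2, -⟩ := hdesc i le_rfl
  rw [Nat.sub_self] at hn1 hn2
  set z := x₀ ^ n with hz
  have hzD : z ∉ D := by
    obtain ⟨t, ht, hne⟩ := hn2
    intro hzD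
    exact hne (L.homo.comm z hzD _ (pow_mem ht _))
  -- `z` centralises the squares
  have hze : ∀ v ∈ D, Commute z (v * v) := fun v hv => by
    have := hn1 v hv
    rwa [pow_succ, pow_zero, one_mul, sq] at this
  have hzW : ∀ v ∈ D, ⁅z, v⁆ ∈ W := fun v hv => by
    have := L.pred_mem (i := 0) hn1 hv
    simpa using this
  have hz2 : z * z ∈ D := L.self _ fun d hd => by
    simpa using hsqS z 0 hn1 (by omega) d hd
  obtain ⟨t₀, ht₀, ht₀z⟩ := hfix x₀ hx₀ _ hz2
    (((Commute.refl x₀).pow_right n).mul_right ((Commute.refl x₀).pow_right n))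
  obtain ⟨s, hs, hsε⟩ := L.mem_top_pow (hzW t₀ ht₀)
  set r := s ^ 2 ^ (a - 3) with hr
  have hrD : r ∈ D := pow_mem hs _
  have hε : ⁅z, t₀⁆ = r ^ 4 := by
    rw [← hsε, hr, ← pow_mul, show (4 : ℕ) = 2 ^ 2 from rfl, ← pow_add, show a - 3 + 2 = a - 1 by omega]
  set d := t₀⁻¹ * (r * r) with hd
  have hdD : d ∈ D := mul_mem (inv_mem ht₀) (mul_mem hrD hrD)
  have hzd : ⁅z, d⁆ = ⁅z, t₀⁆ := by
    have h1 : ⁅z, t₀⁻¹⁆ * ⁅z, t₀⁆ = 1 := by
      rw [← L.homo.comm_mul_right (inv_mem ht₀) ht₀, inv_mul_cancel, commutatorElement_one_right]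
    rw [hd, L.homo.comm_mul_right (inv_mem ht₀) (mul_mem hrD hrD),
      commutatorElement_eq_one_iff_commute.mpr (hze r hrD), mul_one,
      eq_inv_of_mul_eq_one_left h1, inv_eq_self (L.sqW _ (hzW t₀ ht₀))]
  set u := z * d with hu
  have hu2 : u * u = 1 := by
    calc u * u = ⁅z, d⁆ * (d * (z * z) * d) := by
          rw [hu]; simp only [commutatorElement_def]; group
      _ = r ^ 4 * (t₀⁻¹ * (r * r) * (t₀ * t₀) * (t₀⁻¹ * (r * r))) := by rw [hzd, hε, hd, ← ht₀z]
      _ = r ^ 4 * r ^ 4 := by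
          have c1 := L.homo.comm _ (mul_mem hrD hrD) _ (mul_mem ht₀ ht₀)
          rw [mul_assoc t₀⁻¹ (r * r) (t₀ * t₀), c1.eq]
          have : r ^ 4 = r * r * (r * r) := by simp [pow_succ, mul_assoc]
          rw [this]
          have c2 := L.homo.comm _ (inv_mem ht₀) _ (mul_mem hrD hrD)
          calc r * r * (r * r) * (t₀⁻¹ * (t₀ * t₀ * (r * r)) * (t₀⁻¹ * (r * r)))
              = r * r * (r * r) * (t₀ * ((r * r) * t₀⁻¹) * (r * r)) := by group
            _ = r * r * (r * r) * (t₀ * (t₀⁻¹ * (r * r)) * (r * r)) := by rw [c2.eq]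
            _ = _ := by group
      _ = 1 := by rw [← hε]; exact L.sqW _ (hzW t₀ ht₀)
  have huD : u ∉ D := fun h => hzD (by
    have := mul_mem h (inv_mem hdD)
    rwa [hu, mul_inv_cancel_right] at this)
  refine huD (L.hWD (c.mem_of_involution (PGroups.isMulCommutative_of_comm fun x hx y hy =>
      (L.cen y hy x).eq) (fun w hw => by rw [sq]; exact L.sqW w hw) L.card L.cen hu2 ?_))
  intro g
  -- `g z g⁻¹` acts as `z`
  have hlow : ∀ v ∈ D, ∃ q ∈ D, q * q = ⁅g, v⁆ := by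
    intro v hv
    refine L.sq_of_ker (L.homo.comm_mem hv) ?_
    rw [← L.homo.comm_pow_right hv, commutatorElement_eq_one_iff_commute]
    exact L.cen _ (L.pow_top_mem hv) g
  have hact : ∀ v ∈ D, ⁅z, g⁻¹ * v * g⁆ = ⁅z, v⁆ := by
    intro v hv
    have hv' : g⁻¹ * v * g ∈ D := by simpa using L.homo.normal.conj_mem v hv g⁻¹
    obtain ⟨q, hq, hqq⟩ := hlow _ hv'
    have he : v = ⁅g, g⁻¹ * v * g⁆ * (g⁻¹ * v * g) := by rw [commutatorElement_def]; group
    conv_rhs => rw [he]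
    rw [L.homo.comm_mul_right (L.homo.comm_mem hv') hv', ← hqq,
      commutatorElement_eq_one_iff_commute.mpr (hze q hq), one_mul]
  have hgz : z⁻¹ * (g * z * g⁻¹) ∈ D := by
    refine L.self _ fun v hv => ?_
    have hv' : g⁻¹ * v * g ∈ D := by simpa using L.homo.normal.conj_mem v hv g⁻¹
    have e2 : g * z * g⁻¹ * v = z * v * z⁻¹ * (g * z * g⁻¹) := by
      calc g * z * g⁻¹ * v = g * (⁅z, g⁻¹ * v * g⁆ * (g⁻¹ * v * g) * z) * g⁻¹ := by
            simp only [commutatorElement_def]; group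
        _ = ⁅z, v⁆ * v * (g * z * g⁻¹) := by
            rw [hact v hv]
            calc g * (⁅z, v⁆ * (g⁻¹ * v * g) * z) * g⁻¹
                = (g * ⁅z, v⁆) * (g⁻¹ * v * g) * z * g⁻¹ := by group
              _ = (⁅z, v⁆ * g) * (g⁻¹ * v * g) * z * g⁻¹ := by rw [(L.cen _ (hzW v hv) g).eq]
              _ = _ := by group
        _ = _ := by rw [commutatorElement_def]; group
    show z⁻¹ * (g * z * g⁻¹) * v = v * (z⁻¹ * (g * z * g⁻¹))
    rw [mul_assoc, e2]
    group
  have hgd : g * d * g⁻¹ ∈ D := L.homo.normal.conj_mem d hdD g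
  have hδ : u⁻¹ * (g * u * g⁻¹) ∈ D := by
    have : u⁻¹ * (g * u * g⁻¹) = d⁻¹ * (z⁻¹ * (g * z * g⁻¹)) * (g * d * g⁻¹) := by rw [hu]; group
    rw [this]
    exact mul_mem (mul_mem (inv_mem hdD) hgz) hgd
  set δ := u⁻¹ * (g * u * g⁻¹) with hδdef
  have hconj : g * u * g⁻¹ = u * δ := by rw [hδdef, mul_inv_cancel_left]
  have hsq : u * δ * (u * δ) = 1 := by
    rw [← hconj, show g * u * g⁻¹ * (g * u * g⁻¹) = g * (u * u) * g⁻¹ by group, hu2]; group
  have heq : ⁅u, δ⁆ = ⁅z, δ⁆ := by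
    rw [hu, commutatorElement_def, commutatorElement_def]
    calc z * d * δ * (z * d)⁻¹ * δ⁻¹ = z * (d * δ * d⁻¹) * z⁻¹ * δ⁻¹ := by group
      _ = _ := by rw [(L.homo.comm d hdD δ hδ).eq, mul_inv_cancel_right]
  have h2 : ⁅z, δ⁆ * (δ * δ) = 1 := by
    rw [← heq, commutatorElement_def, inv_eq_self hu2]
    calc u * δ * u * δ⁻¹ * (δ * δ) = u * δ * (u * δ) := by group
      _ = 1 := hsq
  have hδ2 : δ * δ ∈ W := by
    rw [show δ * δ = ⁅z, δ⁆⁻¹ from eq_inv_of_mul_eq_one_right h2]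
    exact inv_mem (hzW δ hδ)
  obtain ⟨q, hq, hqδ⟩ := L.homo.eq_pow (j := 2) ha δ hδ (by
    rw [show (2 : ℕ) ^ 2 = 2 * 2 from rfl, pow_mul, sq, sq, L.sqW _ hδ2])
  have hδc : ⁅z, δ⁆ = 1 := by
    rw [← hqδ, show a - 2 = (a - 3) + 1 by omega, pow_succ, pow_mul, sq,
      commutatorElement_eq_one_iff_commute]
    exact hze _ (pow_mem hq _)
  rw [hδc, one_mul] at h2
  exact L.hWmem δ hδ h2

end Level

end Cfsg.Agent.H91.Scn
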