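import Cfsg.Agent.H91.Scn.SquareMap
import Cfsg.Agent.H91.Scn.Noncentral

/-!
The central subgroup of order two or four which is centre, derived and Frattini subgroup at once.
-/

set_option autoImplicit false

namespace Cfsg.Agent.H91.Scn

open Subgroup
open scoped commutatorElement

/-- What is known about the centre `W`. -/
structure Struct (X : Type*) [Group X] (W : Subgroup X) : Prop where
  sqW : ∀ w ∈ W, w * w = 1
  card : Nat.card W = 2 ∨ Nat.card W = 4
  cen : ∀ w ∈ W, ∀ g : X, Commute g w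
  sq : ∀ x : X, x * x ∈ W
  center : Subgroup.center X = W
  comm : commutator X = W
  frat : frattini X = W
  invol : Nat.card W = 4 → ∀ u : X, u * u = 1 → u ∈ W

variable {X : Type*} [Group X] [Finite X] {A : Subgroup (MulAut X)}

theorem comm_mem_of_sq {W : Subgroup X} (h : ∀ x : X, x * x ∈ W) (x y : X) : ⁅x, y⁆ ∈ W :=
  sq_closed_commutator (H := ⊤) (fun x _ => h x) (mem_top x) (mem_top y)

theorem Ctx.mk_struct (c : Ctx X A) {W : Subgroup X} (sqW : ∀ w ∈ W, w * w = 1)
    (card : Nat.card W = 2 ∨ Nat.card W = 4) (cen : ∀ w ∈ W, ∀ g : X, Commute g w)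
    (sq : ∀ x : X, x * x ∈ W) (hZ : ∀ z : X, (∀ g, Commute g z) → z ∈ W) (hW : W ≤ commutator X) :
    Struct X W := by
  haveI := normal_of_central cen
  have hc : commutator X ≤ W := by
    rw [commutator_def, commutator_le]
    exact fun x _ y _ => comm_mem_of_sq sq x y
  refine ⟨sqW, card, cen, sq, le_antisymm ?_ ?_, le_antisymm hc hW, le_antisymm ?_ ?_, ?_⟩
  · exact fun z hz => hZ z fun g => mem_center_iff.mp hz g
  · exact fun w hw => mem_center_iff.mpr fun g => (cen w hw g).eq
  · exact PGroups.frattini_le_of_commutator_le (p := 2) W hc fun x => by rw [_root_.sq]; exact sq x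
  · exact hW.trans (PGroups.commutator_le_frattini c.two)
  · intro h4 u hu
    refine c.mem_of_involution (PGroups.isMulCommutative_of_comm fun x hx y hy => (cen y hy x).eq)
      (fun w hw => by rw [_root_.sq]; exact sqW w hw) h4 cen hu fun g => ?_
    have h := comm_mem_of_sq sq u⁻¹ g
    rwa [show ⁅u⁻¹, g⁆ = u⁻¹ * g * u * g⁻¹ by rw [commutatorElement_def, inv_inv],
      mul_assoc (u⁻¹ * g), mul_assoc u⁻¹, ← mul_assoc g] at h

/-- An automorphism in `A` fixing a nontrivial element of a four-group fixes it all. -/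
theorem Ctx.four_fix (c : Ctx X A) {W : Subgroup X} (hcard : Nat.card W = 4)
    (hW : ∀ w ∈ W, w * w = 1) {φ : MulAut X} (hφ : φ ∈ A) (hinv : ∀ w ∈ W, φ w ∈ W) {u : X}
    (hu : u ∈ W) (hu1 : u ≠ 1) (hfu : φ u = u) {w : X} (hw : w ∈ W) : φ w = w := by
  by_contra hne
  have hw1 : w ≠ 1 := fun h => hne (by rw [h, map_one])
  have huw : u ≠ w := fun h => hne (h ▸ hfu)
  have hodd := c.odd_orderOf hφ
  rcases mem_four hcard hW hu hw hu1 hw1 huw (hinv w hw) with h | h | h | h
  · exact hw1 (φ.injective (by rw [h, map_one]))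
  · exact huw.symm (φ.injective (h.trans hfu.symm))
  · exact hne h
  · exact hne (eq_of_sq_fixed hodd (by rw [h, map_mul, hfu, h, ← mul_assoc, hW u hu, one_mul]))

/-- An automorphism in `A` moving an element of a four-group is a three-cycle. -/
theorem Ctx.four_move (c : Ctx X A) {W : Subgroup X} (hcard : Nat.card W = 4)
    (hW : ∀ w ∈ W, w * w = 1) {φ : MulAut X} (hφ : φ ∈ A) (hinv : ∀ w ∈ W, φ w ∈ W) {u : X}
    (hu : u ∈ W) (hne : φ u ≠ u) : φ (φ u) = u * φ u := by
  have hu1 : u ≠ 1 := fun h => hne (by rw [h, map_one])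
  have hf1 : φ u ≠ 1 := fun h => hu1 (φ.injective (by rw [h, map_one]))
  rcases mem_four hcard hW hu (hinv u hu) hu1 hf1 (Ne.symm hne) (hinv _ (hinv u hu)) with h | h | h | h
  · exact absurd (φ.injective (h.trans (map_one φ).symm)) hf1
  · exact absurd (eq_of_sq_fixed (c.odd_orderOf hφ) h) hne
  · exact absurd (φ.injective h) hne
  · exact h

theorem Ctx.exists_struct (c : Ctx X A) : ∃ W : Subgroup X, Struct X W := by
  classical
  haveI : Fact (Nat.Prime 2) := ⟨Nat.prime_two⟩
  haveI : Nontrivial X := by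
    by_contra h
    rw [not_nontrivial_iff_subsingleton] at h
    exact c.nonab ⟨⟨fun _ _ => Subsingleton.elim _ _⟩⟩
  obtain ⟨K, hKc, hKfr, hKcomm, hKC⟩ := PGroups.exists_critical c.two
  haveI := hKc
  set D := K ⊓ centralizer (K : Set X) with hD
  have hDc : D.Characteristic := PGroups.characteristic_inf_centralizer hKc
  haveI := hDc
  have hDK : ∀ k ∈ K, ∀ d ∈ D, Commute k d := fun k hk d hd => mem_centralizer_iff.mp hd.2 k hk
  have hDab : ∀ u ∈ D, ∀ v ∈ D, Commute u v := fun u hu v hv => hDK u hu.1 v hv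
  have hCD : ∀ x, (∀ k ∈ K, Commute k x) → x ∈ D := fun x hx =>
    have h : x ∈ centralizer (K : Set X) := mem_centralizer_iff.mpr fun k hk => (hx k hk).eq
    ⟨hKC h, h⟩
  have hKsq : ∀ k ∈ K, k * k ∈ D := fun k hk => by
    refine ⟨mul_mem hk hk, hKfr ⟨⟨k, hk⟩ * ⟨k, hk⟩, ?_, rfl⟩⟩
    rw [← sq]
    exact PGroups.pow_mem_frattini (c.two.to_subgroup K) _
  have hKD : ∀ g : X, ∀ k ∈ K, ⁅g, k⁆ ∈ D := fun g k hk => by
    rw [← commutatorElement_inv]
    exact inv_mem (hKcomm (commutator_mem_commutator hk (mem_top g)))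
  let W : Subgroup X :=
    { carrier := {x | x ∈ D ∧ x * x = 1}
      one_mem' := ⟨one_mem _, mul_one 1⟩
      mul_mem' := by
        rintro x y ⟨hx, hx2⟩ ⟨hy, hy2⟩
        refine ⟨mul_mem hx hy, ?_⟩
        rw [mul_assoc x y, ← mul_assoc y x y, (hDab y hy x hx).eq, mul_assoc x y y, ← mul_assoc x x, hx2,
          hy2, one_mul]
      inv_mem' := by
        rintro x ⟨hx, hx2⟩
        exact ⟨inv_mem hx, by rw [← mul_inv_rev, hx2, inv_one]⟩ }
  have hWD : W ≤ D := fun x hx => hx.1
  have hsqW : ∀ w ∈ W, w * w = 1 := fun w hw => hw.2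
  have hWmem : ∀ d ∈ D, d * d = 1 → d ∈ W := fun d hd h => ⟨hd, h⟩
  have hWc : W.Characteristic := by
    rw [characteristic_iff_le_comap]
    intro φ x hx
    exact ⟨(PGroups.apply_mem_iff_of_characteristic hDc φ).mpr hx.1,
      show φ x * φ x = 1 by rw [← map_mul, hx.2, map_one]⟩
  haveI := hWc
  have hWinv : ∀ φ : MulAut X, ∀ w ∈ W, φ w ∈ W := fun φ w hw =>
    (PGroups.apply_mem_iff_of_characteristic hWc φ).mpr hw
  have hDinv : ∀ φ : MulAut X, ∀ w ∈ D, φ w ∈ D := fun φ w hw =>
    (PGroups.apply_mem_iff_of_characteristic hDc φ).mpr hw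
  have hWcomm : IsMulCommutative W :=
    PGroups.isMulCommutative_of_comm fun x hx y hy => hDab x (hWD hx) y (hWD hy)
  have hZD : center X ≤ D := fun z hz => hCD z fun k _ => mem_center_iff.mp hz k
  -- `W` is nontrivial
  haveI : Nontrivial D := by
    haveI := c.two.center_nontrivial
    obtain ⟨z, hz, hz1⟩ := exists_ne_one_of_nontrivial (center X) |>.imp fun z h => h
    exact nontrivial_iff_exists_ne_one D |>.mpr ⟨z, hZD hz, hz1⟩
  obtain ⟨n, hn⟩ := IsPGroup.iff_card.mp (c.two.to_subgroup W)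
  have hn0 : n ≠ 0 := by
    intro h0
    obtain ⟨m, hm⟩ := IsPGroup.iff_card.mp (c.two.to_subgroup D)
    have hm0 : m ≠ 0 := fun h => by
      rw [h, pow_zero] at hm
      exact absurd hm (Finite.one_lt_card (α := D)).ne'
    obtain ⟨d, hd⟩ := exists_prime_orderOf_dvd_card' 2 (hm ▸ dvd_pow_self 2 hm0)
    have hdW : (d : X) ∈ W := hWmem d d.2 (by
      have := pow_orderOf_eq_one d
      rw [hd, sq] at this
      exact congrArg Subtype.val this)
    rw [h0, pow_zero, card_eq_one] at hn
    rw [hn, mem_bot] at hdW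
    rw [show d = 1 from Subtype.ext hdW, orderOf_one] at hd
    exact absurd hd (by norm_num)
  have hn2 : n ≤ 2 := by
    have := c.small W inferInstance hWcomm fun x hx => by rw [sq]; exact hsqW x hx
    rw [hn, show 4 = 2 ^ 2 from rfl] at this
    exact (Nat.pow_le_pow_iff_right (by norm_num)).mp this
  have hcard : Nat.card W = 2 ∨ Nat.card W = 4 := by
    rw [hn]
    rcases (show n = 1 ∨ n = 2 by omega) with rfl | rfl <;> norm_num
  have hWcen : ∀ w ∈ W, ∀ g : X, Commute g w := by
    intro w hw g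
    have hi := PGroups.index_centralizer_le c.two n W hn
    have h2 : 2 ^ n.choose 2 ≤ 2 := by
      rcases (show n = 1 ∨ n = 2 by omega) with rfl | rfl <;> decide
    have h0 : (centralizer (W : Set X)).index ≠ 0 := index_ne_zero_of_finite
    rcases (show (centralizer (W : Set X)).index = 1 ∨ (centralizer (W : Set X)).index = 2 by omega) with
      h | h
    · exact (mem_centralizer_iff.mp ((index_eq_one.mp h).symm ▸ mem_top g) w hw).symm
    · refine (c.false_of_index_two h fun φ _ b hb => mem_centralizer_iff.mpr fun v hv => ?_).elim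
      have h1 := mem_centralizer_iff.mp hb _ (hWinv φ⁻¹ v hv)
      have h2 := congrArg φ h1
      rwa [map_mul, map_mul, MulAut.inv_apply, MulEquiv.apply_symm_apply] at h2
  -- consequences of `D` being central
  have hCL : (∀ x : X, ∀ d ∈ D, Commute x d) → (∀ x : X, x * x ∈ D) ∧ ∀ x y : X, ⁅x, y⁆ ∈ W := by
    intro hcen
    have hsq : ∀ x : X, x * x ∈ D := by
      intro x
      refine hCD _ fun k hk => (commutatorElement_eq_one_iff_commute.mp ?_).symm
      have h1 := hKD x k hk
      have h2 : ⁅x * x, k⁆ = ⁅x, ⁅x, k⁆⁆ * (⁅x, k⁆ * ⁅x, k⁆) := by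
        simp only [commutatorElement_def]; group
      have h3 : ⁅x, k * k⁆ = ⁅x, k⁆ * (k * ⁅x, k⁆ * k⁻¹) := by simp only [commutatorElement_def]; group
      rw [(hcen k _ h1).eq, mul_inv_cancel_right,
        commutatorElement_eq_one_iff_commute.mpr (hcen x _ (hKsq k hk))] at h3
      rw [h2, ← h3, mul_one, commutatorElement_eq_one_iff_commute.mpr (hcen x _ h1)]
    refine ⟨hsq, fun x y => ?_⟩
    have h1 : ⁅x, y⁆ ∈ D := comm_mem_of_sq hsq x y
    refine hWmem _ h1 ?_
    have h2 : ⁅x * x, y⁆ = ⁅x, ⁅x, y⁆⁆ * (⁅x, y⁆ * ⁅x, y⁆) := by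
      simp only [commutatorElement_def]; group
    rw [commutatorElement_eq_one_iff_commute.mpr (hcen x _ h1), one_mul,
      commutatorElement_eq_one_iff_commute.mpr (hcen y _ (hsq x)).symm] at h2
    exact h2.symm
  have hWcom : ∀ (x y : X), ⁅x, y⁆ ∈ commutator X := fun x y => by
    rw [commutator_def]; exact commutator_mem_commutator (mem_top x) (mem_top y)
  by_cases hfixW : ∀ φ ∈ A, ∀ w ∈ W, φ w = w
  · -- `A` fixes `D`
    have hfixD : ∀ φ ∈ A, ∀ d ∈ D, φ d = d := by
      intro φ hφ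
      suffices ∀ n : ℕ, ∀ d ∈ D, d ^ 2 ^ n = 1 → φ d = d by
        intro d hd
        obtain ⟨k, hk⟩ := c.two d
        exact this k d hd hk
      intro n
      induction n with
      | zero => intro d _ h; rw [pow_zero, pow_one] at h; rw [h, map_one]
      | succ n ih =>
        intro d hd h
        have h1 : φ (d * d) = d * d := ih _ (mul_mem hd hd) (by rw [← sq, ← pow_mul, ← pow_succ', h])
        have hφd := hDinv φ d hd
        have hη : d⁻¹ * φ d * (d⁻¹ * φ d) = 1 := by
          rw [map_mul] at h1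
          calc d⁻¹ * φ d * (d⁻¹ * φ d) = d⁻¹ * (φ d * d⁻¹) * φ d := by group
            _ = d⁻¹ * (d⁻¹ * φ d) * φ d := by rw [(hDab _ hφd _ (inv_mem hd)).eq]
            _ = d⁻¹ * d⁻¹ * (φ d * φ d) := by group
            _ = 1 := by rw [h1]; group
        have hηW := hWmem _ (mul_mem (inv_mem hd) hφd) hη
        have h2 := eq_one_of_shift (c.odd_orderOf hφ) (d := d) (η := d⁻¹ * φ d) (by group)
          (hfixW φ hφ _ hηW) hη
        exact (inv_mul_eq_one.mp h2).symm
    have hcen : ∀ x : X, ∀ d ∈ D, Commute x d := fun x d hd => c.commute_of_fixed hfixD hd x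
    obtain ⟨hsq, hcomm⟩ := hCL hcen
    have hDcomm : D ≤ commutator X := fun d hd =>
      c.mem_commutator_of_fixed (fun φ hφ => hfixD φ hφ d hd) (c.two d)
    have hDW : D ≤ W := by
      refine hDcomm.trans ?_
      rw [commutator_def, commutator_le]
      exact fun x _ y _ => hcomm x y
    exact ⟨W, c.mk_struct hsqW hcard hWcen (fun x => hDW (hsq x))
      (fun z hz => hDW (hZD (mem_center_iff.mpr fun g => (hz g).eq))) (hWD.trans hDcomm)⟩
  · push Not at hfixW
    obtain ⟨ψ, hψ, w₀, hw₀, hne₀⟩ := hfixW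
    have hw1 : w₀ ≠ 1 := fun h => hne₀ (by rw [h, map_one])
    have h4 : Nat.card W = 4 := by
      refine hcard.resolve_left fun h2 => ?_
      obtain ⟨a, b, hab, hs⟩ := Nat.card_eq_two_iff.mp h2
      have hmem : ∀ w : W, w = a ∨ w = b := fun w => by
        have := hs ▸ Set.mem_univ w
        simpa using this
      have h1 : ψ w₀ ≠ 1 := fun h => hw1 (ψ.injective (by rw [h, map_one]))
      rcases hmem 1 with e1 | e1 <;> rcases hmem ⟨w₀, hw₀⟩ with e2 | e2 <;>
        rcases hmem ⟨ψ w₀, hWinv ψ _ hw₀⟩ with e3 | e3 <;>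
        first
          | exact hw1 (congrArg Subtype.val (e2.trans e1.symm))
          | exact h1 (congrArg Subtype.val (e3.trans e1.symm))
          | exact hne₀ (congrArg Subtype.val (e3.trans e2.symm))
    have hfix : ∀ w ∈ W, ψ w = w → w = 1 := fun w hw h => by
      by_contra h1
      exact hne₀ (c.four_fix h4 hsqW hψ (hWinv ψ) hw h1 h hw₀)
    have hstep : ∀ w ∈ W, ψ (ψ w) = w * ψ w := fun w hw => by
      by_cases h : ψ w = w
      · rw [hfix w hw h, map_one, map_one, one_mul]
      · exact c.four_move h4 hsqW hψ (hWinv ψ) hw h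
    have hcube : ∀ w ∈ W, ψ (ψ (ψ w)) = w := fun w hw => by
      have h := hWinv ψ w hw
      rw [hstep w hw, map_mul, hstep w hw, (hWcen w hw _).symm.eq, ← mul_assoc, hsqW _ h, one_mul]
    have hsum : ∀ w ∈ W, w * ψ w * ψ (ψ w) = 1 := fun w hw => by
      rw [hstep w hw]; exact hsqW _ (mul_mem hw (hWinv ψ w hw))
    have hne₁ : ψ w₀ ≠ 1 := fun h => hw1 (ψ.injective (by rw [h, map_one]))
    have hspan : ∀ {φ φ' : MulAut X}, φ w₀ = φ' w₀ → φ (ψ w₀) = φ' (ψ w₀) → ∀ w ∈ W, φ w = φ' w := by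
      intro φ φ' e1 e2 w hw
      rcases mem_four h4 hsqW hw₀ (hWinv ψ _ hw₀) hw1 hne₁ (Ne.symm hne₀) hw with h | h | h | h <;> rw [h]
      · rw [map_one, map_one]
      · exact e1
      · exact e2
      · rw [map_mul, map_mul, e1, e2]
    have hpows : ∀ φ ∈ A, (∀ w ∈ W, φ w = w) ∨ (∀ w ∈ W, φ w = ψ w) ∨ (∀ w ∈ W, φ w = ψ (ψ w)) := by
      intro φ hφ
      rcases mem_four h4 hsqW hw₀ (hWinv ψ _ hw₀) hw1 hne₁ (Ne.symm hne₀) (hWinv φ _ hw₀) with
        h | h | h | h
      · exact absurd (φ.injective (h.trans (map_one φ).symm)) hw1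
      · exact Or.inl fun w hw => c.four_fix h4 hsqW hφ (hWinv φ) hw₀ hw1 h hw
      · have h1 := c.four_move h4 hsqW hφ (hWinv φ) hw₀ (by rw [h]; exact hne₀)
        rw [h] at h1
        exact Or.inr (Or.inl (hspan h (h1.trans (hstep _ hw₀).symm)))
      · have hne : φ w₀ ≠ w₀ := by rw [h]; exact fun e => hne₁ (mul_eq_left.mp e)
        have h1 := c.four_move h4 hsqW hφ (hWinv φ) hw₀ hne
        rw [h, map_mul, h, ← mul_assoc w₀ w₀, hsqW _ hw₀, one_mul] at h1
        refine Or.inr (Or.inr (hspan (φ' := ψ * ψ) (h.trans (hstep _ hw₀).symm) ?_))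
        show φ (ψ w₀) = ψ (ψ (ψ w₀))
        rw [hcube w₀ hw₀]
        -- `h1 : w₀ * ψ w₀ * φ (ψ w₀) = ψ w₀`
        have h2 : φ (ψ w₀) = (w₀ * ψ w₀)⁻¹ * ψ w₀ := eq_inv_mul_of_mul_eq h1
        rw [h2, mul_inv_rev, inv_eq_self (hsqW _ hw₀), inv_eq_self (hsqW _ (hWinv ψ _ hw₀)),
          (hWcen _ hw₀ _).eq, mul_assoc, hsqW _ (hWinv ψ _ hw₀), mul_one]
    -- the exponent of `D`
    have hex : ∃ a, ∀ d ∈ D, d ^ 2 ^ a = 1 := by
      obtain ⟨k, hk⟩ := IsPGroup.iff_card.mp c.two
      exact ⟨k, fun d _ => by rw [← hk]; exact pow_card_eq_one'⟩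
    set a := Nat.find hex with ha
    have hexp : ∀ d ∈ D, d ^ 2 ^ a = 1 := Nat.find_spec hex
    have ha0 : a ≠ 0 := fun h => hw1 (by simpa [h] using hexp w₀ (hWD hw₀))
    obtain ⟨d₀, hd₀, hd₀1⟩ : ∃ d ∈ D, d ^ 2 ^ (a - 1) ≠ 1 := by
      have := Nat.find_min hex (show a - 1 < Nat.find hex by rw [← ha]; omega)
      push Not at this
      exact this
    have hu : d₀ ^ 2 ^ (a - 1) ∈ W := by
      refine hWmem _ (pow_mem hd₀ _) ?_
      rw [← pow_add, ← two_mul, ← pow_succ', show a - 1 + 1 = a by omega]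
      exact hexp _ hd₀
    have hhomo : Homo D a := by
      refine ⟨hDab, inferInstance, hexp, fun w hw hw2 => ?_⟩
      set u := d₀ ^ 2 ^ (a - 1) with hudef
      have hψu : (ψ d₀) ^ 2 ^ (a - 1) = ψ u := (map_pow ψ d₀ _).symm
      have hne : ψ u ≠ 1 := fun h => hd₀1 (ψ.injective (by rw [h, map_one]))
      rcases mem_four h4 hsqW hu (hWinv ψ _ hu) hd₀1 hne (fun h => hd₀1 (hfix u hu h.symm))
        (hWmem w hw hw2) with h | h | h | h
      · exact ⟨1, one_mem _, by rw [h, one_pow]⟩
      · exact ⟨d₀, hd₀, h.symm⟩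
      · exact ⟨ψ d₀, hDinv ψ _ hd₀, by rw [hψu, h]⟩
      · exact ⟨d₀ * ψ d₀, mul_mem hd₀ (hDinv ψ _ hd₀),
          by rw [(hDab _ hd₀ _ (hDinv ψ _ hd₀)).mul_pow, hψu, h]⟩
    -- the derived group contains `W` as soon as it is inside
    have hWle : (∀ x y : X, ⁅x, y⁆ ∈ W) → W ≤ commutator X := by
      intro hcomm w hw
      obtain ⟨x, y, hxy⟩ : ∃ x y : X, ⁅x, y⁆ ≠ 1 := by
        by_contra hcon
        push Not at hcon
        exact c.nonab ⟨⟨fun x y => (commutatorElement_eq_one_iff_commute.mp (hcon x y)).eq⟩⟩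
      have hne : ψ ⁅x, y⁆ ≠ 1 := fun h => hxy (ψ.injective (by rw [h, map_one]))
      have hmap : ψ ⁅x, y⁆ ∈ commutator X := by rw [map_commutatorElement]; exact hWcom _ _
      rcases mem_four h4 hsqW (hcomm x y) (hWinv ψ _ (hcomm x y)) hxy hne
        (fun h => hxy (hfix _ (hcomm x y) h.symm)) hw with h | h | h | h <;> rw [h]
      · exact one_mem _
      · exact hWcom x y
      · exact hmap
      · exact mul_mem (hWcom x y) hmap
    by_cases hcenD : ∀ x : X, ∀ d ∈ D, Commute x d
    · obtain ⟨hsq, hcomm⟩ := hCL hcenD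
      rcases Nat.lt_or_ge a 2 with ha1 | ha2
      · have hDW : D ≤ W := fun d hd => hWmem d hd (by
          have := hexp d hd
          rwa [show a = 1 by omega, pow_one, sq] at this)
        exact ⟨W, c.mk_struct hsqW hcard hWcen (fun x => hDW (hsq x))
          (fun z hz => hDW (hZD (mem_center_iff.mpr fun g => (hz g).eq))) (hWle hcomm)⟩
      · refine (c.nonab ⟨⟨fun x y => ?_⟩⟩).elim
        refine (commute_of_square_map (H := ⊤) hhomo ha2 (fun x _ => hsq x) le_top (fun x _ => hcenD x)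
          hWD hWmem hsqW h4 hWcen (fun x _ y _ => hcomm x y) (fun u _ hu => ?_) ψ (fun x _ => mem_top _)
          hfix x (mem_top _) y (mem_top _)).eq
        refine hWD (c.mem_of_involution hWcomm (fun w hw => by rw [sq]; exact hsqW w hw) h4 hWcen hu
          fun g => ?_)
        have h := hcomm u⁻¹ g
        rwa [show ⁅u⁻¹, g⁆ = u⁻¹ * g * u * g⁻¹ by rw [commutatorElement_def, inv_inv],
          mul_assoc (u⁻¹ * g), mul_assoc u⁻¹, ← mul_assoc g] at h
    · have ha2 : 2 ≤ a := by
        by_contra h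
        exact hcenD fun x d hd => hWcen d (hWmem d hd (by
          have := hexp d hd
          rwa [show a = 1 by omega, pow_one, sq] at this)) x
      have hKcommW : ∀ x ∈ K, ∀ y ∈ K, ⁅x, y⁆ ∈ W := by
        intro x hx y hy
        refine hWmem _ (hKD x y hy) ?_
        have h3 : ⁅x, y * y⁆ = ⁅x, y⁆ * (y * ⁅x, y⁆ * y⁻¹) := by
          simp only [commutatorElement_def]; group
        rw [(hDK y hy _ (hKD x y hy)).eq, mul_inv_cancel_right,
          commutatorElement_eq_one_iff_commute.mpr (hDK x hx _ (hKsq y hy))] at h3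
        exact h3.symm
      have hKab : ∀ x ∈ K, ∀ y ∈ K, Commute x y := by
        refine commute_of_square_map hhomo ha2 hKsq inf_le_left (fun x hx => hDK x hx)
          hWD hWmem hsqW h4 hWcen hKcommW (fun u hu hu2 => ?_) ψ
          (fun x hx => (PGroups.apply_mem_iff_of_characteristic hKc ψ).mpr hx) hfix
        refine hWD (c.mem_of_involution hWcomm (fun w hw => by rw [sq]; exact hsqW w hw) h4 hWcen hu2
          fun g => ?_)
        set δ := u⁻¹ * (g * u * g⁻¹) with hδ
        have hδD : δ ∈ D := by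
          have : δ = u⁻¹ * ⁅g, u⁆ * u := by rw [hδ, commutatorElement_def]; group
          rw [this, mul_assoc, ← (hDK u hu _ (hKD g u hu)).eq, inv_mul_cancel_left]
          exact hKD g u hu
        refine hWmem δ hδD ?_
        have h1 : u * δ * (u * δ) = 1 := by
          rw [hδ, mul_inv_cancel_left, show g * u * g⁻¹ * (g * u * g⁻¹) = g * (u * u) * g⁻¹ by group, hu2]
          group
        calc δ * δ = u * u * (δ * δ) := by rw [hu2, one_mul]
          _ = u * (u * δ) * δ := by group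
          _ = u * (δ * u) * δ := by rw [(hDK u hu δ hδD).eq]
          _ = u * δ * (u * δ) := by group
          _ = 1 := h1
      have L : Level A D W a ψ :=
        { homo := hhomo
          two := ha2
          self := fun x hx => hCD x fun k hk =>
            (hx k ⟨hk, mem_centralizer_iff.mpr fun l hl => (hKab l hl k hk).eq⟩).symm
          inv := fun φ _ => hDinv φ
          hWD := hWD
          hWmem := hWmem
          sqW := hsqW
          card := h4
          cen := hWcen
          psi := hψ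
          fix := hfix
          cube := hcube
          sum := hsum
          pows := hpows }
      have hnc : ∃ x, x ∉ D := by
        by_contra hcon
        push Not at hcon
        exact c.nonab ⟨⟨fun x y => (hDab x (hcon x) y (hcon y)).eq⟩⟩
      obtain ⟨hsq, hZ⟩ := L.result c hnc
      exact ⟨W, c.mk_struct hsqW hcard hWcen hsq hZ (hWle (comm_mem_of_sq hsq))⟩

end Cfsg.Agent.H91.Scn
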