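import Cfsg.Agent.H91.Scn.Gauss

/-!
Centre of order four: the group has order 64.
-/

set_option autoImplicit false

namespace Cfsg.Agent.H91.Scn

open Subgroup
open scoped commutatorElement

variable {X : Type*} [Group X] [Finite X] {A : Subgroup (MulAut X)} {W : Subgroup X}

omit [Finite X] in
theorem mem_zpowers_of_sq {a z : X} (ha : a * a = 1) : z ∈ zpowers a ↔ z = 1 ∨ z = a := by
  refine ⟨fun h => ?_, ?_⟩
  · obtain ⟨i, rfl⟩ := mem_zpowers_iff.mp h
    rcases Int.even_or_odd i with ⟨k, rfl⟩ | ⟨k, rfl⟩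
    · left; rw [← two_mul, zpow_mul, zpow_two, ha, one_zpow]
    · right; rw [zpow_add, zpow_mul, zpow_two, ha, one_zpow, one_mul, zpow_one]
  · rintro (rfl | rfl)
    exacts [one_mem _, mem_zpowers _]

omit [Finite X] in
theorem mem_sup_zpowers_cases {H : Subgroup X} [H.Normal] {x z : X} (hx : x * x ∈ H)
    (hz : z ∈ H ⊔ zpowers x) : z ∈ H ∨ z * x⁻¹ ∈ H := by
  obtain ⟨h, hh, v, hv, rfl⟩ := mem_sup_of_normal_left.mp hz
  obtain ⟨i, rfl⟩ := mem_zpowers_iff.mp hv
  rcases Int.even_or_odd i with ⟨k, rfl⟩ | ⟨k, rfl⟩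
  · left
    rw [← two_mul, zpow_mul, zpow_two]
    exact mul_mem hh (zpow_mem hx k)
  · right
    rw [zpow_add, zpow_one, ← mul_assoc, mul_inv_cancel_right, zpow_mul, zpow_two]
    exact mul_mem hh (zpow_mem hx k)

namespace Struct

variable (S : Struct X W)
include S

omit [Finite X] in
theorem commW (x y : X) : ⁅x, y⁆ ∈ W :=
  sq_closed_commutator (H := ⊤) (fun z _ => S.sq z) (mem_top x) (mem_top y)

omit [Finite X] in
theorem normal_of_le {H : Subgroup X} (h : W ≤ H) : H.Normal :=
  Subgroup.Normal.of_commutator_le X (S.comm ▸ h)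

omit [Finite X] in
theorem normalW : W.Normal := normal_of_central S.cen

omit [Finite X] in
theorem abW : IsMulCommutative W :=
  PGroups.isMulCommutative_of_comm fun x hx y hy => (S.cen y hy x).eq

omit [Finite X] in
theorem mem_of_central {z : X} (h : ∀ g, Commute g z) : z ∈ W := by
  rw [← S.center]; exact mem_center_iff.mpr fun g => (h g).eq

/-- Adjoining one element. -/
theorem card_sup {H : Subgroup X} (h : W ≤ H) {x : X} (hx : x ∉ H) :
    Nat.card ↥(H ⊔ zpowers x) = 2 * Nat.card H := by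
  haveI : Fact (Nat.Prime 2) := ⟨Nat.prime_two⟩
  haveI := S.normal_of_le h
  exact PGroups.card_sup_zpowers H hx (by rw [_root_.sq]; exact h (S.sq x))

/-- Order at most 32 is impossible when the centre has order four. -/
theorem card_gt (c : Ctx X A) (h4 : Nat.card W = 4) : 32 < Nat.card X := by
  by_contra hle
  haveI := S.normalW
  have hbot : commutator X ≠ ⊥ := fun h => by
    rw [S.comm] at h
    rw [h, card_bot] at h4
    omega
  obtain ⟨x, hx⟩ : ∃ x, x ∉ W := by
    by_contra hcon
    push Not at hcon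
    exact c.nonab ⟨⟨fun a b => (S.cen b (hcon b) a).eq⟩⟩
  set H1 := W ⊔ zpowers x with hH1
  have hc1 : Nat.card H1 = 8 := by rw [hH1, S.card_sup le_rfl hx, h4]
  have hW1 : W ≤ H1 := le_sup_left
  have hab1 : IsMulCommutative H1 := PGroups.isMulCommutative_sup_zpowers S.abW
    (mem_centralizer_iff.mpr fun w hw => (S.cen w hw x).symm.eq)
  obtain ⟨y, hy⟩ : ∃ y, y ∉ H1 := by
    by_contra hcon
    push Not at hcon
    exact c.nonab ⟨⟨fun a b => PGroups.comm_of_isMulCommutative hab1 (hcon a) (hcon b)⟩⟩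
  set H2 := H1 ⊔ zpowers y with hH2
  have hc2 : Nat.card H2 = 16 := by rw [hH2, S.card_sup hW1 hy, hc1]
  have hW2 : W ≤ H2 := hW1.trans le_sup_left
  have mx1 : x ∈ H1 := mem_sup_right (mem_zpowers x)
  have mx : x ∈ H2 := mem_sup_left mx1
  have my : y ∈ H2 := mem_sup_right (mem_zpowers y)
  obtain ⟨z, hz⟩ : ∃ z, z ∉ H2 := by
    by_contra hcon
    push Not at hcon
    have hsq := S.sqW _ (S.commW x y)
    haveI : (zpowers ⁅x, y⁆).Normal :=
      normal_of_central fun w hw g => S.cen w (zpowers_le.mpr (S.commW x y) hw) g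
    have hgen : ∀ t, t ∈ closure ((W : Set X) ∪ {x, y}) := fun t => by
      refine (sup_le (sup_le (fun w hw => subset_closure (Or.inl hw)) (zpowers_le.mpr ?_))
        (zpowers_le.mpr ?_) : H2 ≤ _) (hcon t) <;> exact subset_closure (Or.inr (by simp))
    have h1 : commutator X ≤ zpowers ⁅x, y⁆ := by
      rw [_root_.commutator_def, commutator_le]
      intro a _ b _
      refine commutator_mem_of_gens ?_ (hgen a) (hgen b)
      intro u hu v hv
      rcases hu with hu | hu
      · rw [commutatorElement_eq_one_iff_commute.mpr (S.cen u hu v).symm]; exact one_mem _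
      rcases hv with hv | hv
      · rw [commutatorElement_eq_one_iff_commute.mpr (S.cen v hv u)]; exact one_mem _
      simp only [Set.mem_insert_iff, Set.mem_singleton_iff] at hu hv
      rcases hu with rfl | rfl <;> rcases hv with rfl | rfl
      · rw [commutatorElement_self]; exact one_mem _
      · exact mem_zpowers _
      · refine inv_mem_iff.mp ?_; rw [commutatorElement_inv]; exact mem_zpowers _
      · rw [commutatorElement_self]; exact one_mem _
    rw [S.comm] at h1
    have h2 := card_le_of_le h1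
    rw [h4, Nat.card_zpowers] at h2
    have h3 : orderOf ⁅x, y⁆ ≤ 2 := orderOf_le_of_pow_eq_one (by norm_num) (by rw [_root_.sq, hsq])
    omega
  have hX : Nat.card X = 32 := by
    have h1 := S.card_sup hW2 hz
    rw [hc2] at h1
    have h2 := Subgroup.card_le_card_group (H2 ⊔ zpowers z)
    omega
  -- two commuting elements generating a large subgroup
  obtain ⟨u, hu, v, hv, huv⟩ : ∃ u, u ∉ W ∧ ∃ v, v ∉ W ⊔ zpowers u ∧ Commute u v := by
    by_contra hcon
    push Not at hcon
    have hsmall : ∀ u, u ∉ W → ∀ v, ⁅u, v⁆ = 1 → v ∈ W ∨ v * u⁻¹ ∈ W := fun u hu v h =>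
      mem_sup_zpowers_cases (S.sq u) (by
        by_contra hv
        exact hcon u hu v hv (commutatorElement_eq_one_iff_commute.mp h))
    have hyW : y ∉ W := fun h => hy (hW1 h)
    have hzW : z ∉ W := fun h => hz (hW2 h)
    have hinv : ∀ a b : X, ⁅b, a⁆ = ⁅a, b⁆ := fun a b => by
      rw [← commutatorElement_inv, inv_eq_self (S.sqW _ (S.commW a b))]
    have hne_xy : ⁅x, y⁆ ≠ 1 := fun h => by
      rcases hsmall x hx y h with h' | h'
      · exact hyW h'
      · exact hy (by simpa using mul_mem (hW1 h') mx1)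
    have hne_xz : ⁅x, z⁆ ≠ 1 := fun h => by
      rcases hsmall x hx z h with h' | h'
      · exact hzW h'
      · exact hz (by simpa using mul_mem (hW2 h') mx)
    have hne_yz : ⁅y, z⁆ ≠ 1 := fun h => by
      rcases hsmall y hyW z h with h' | h'
      · exact hzW h'
      · exact hz (by simpa using mul_mem (hW2 h') my)
    have hd1 : ⁅x, y⁆ ≠ ⁅x, z⁆ := fun h => by
      rcases hsmall x hx (y * z) (by
        rw [comm_mul_right' S.cen S.sq, h, S.sqW _ (S.commW x z)]) with h' | h'
      · exact hz (by simpa using mul_mem (inv_mem my) (hW2 h'))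
      · refine hz ?_
        have h'' := mul_mem (mul_mem (inv_mem my) (hW2 h')) mx
        rwa [show y⁻¹ * (y * z * x⁻¹) * x = z by group] at h''
    have hd2 : ⁅x, y⁆ ≠ ⁅y, z⁆ := fun h => by
      rcases hsmall y hyW (x * z) (by
        rw [comm_mul_right' S.cen S.sq, hinv x y, h, S.sqW _ (S.commW y z)]) with h' | h'
      · exact hz (by simpa using mul_mem (inv_mem mx) (hW2 h'))
      · refine hz ?_
        have h'' := mul_mem (mul_mem (inv_mem mx) (hW2 h')) my
        rwa [show x⁻¹ * (x * z * y⁻¹) * y = z by group] at h''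
    have hd3 : ⁅x, z⁆ ≠ ⁅y, z⁆ := fun h => by
      rcases hsmall z hzW (x * y) (by
        rw [comm_mul_right' S.cen S.sq, hinv x z, hinv y z, h, S.sqW _ (S.commW y z)]) with h' | h'
      · exact hy (by simpa using mul_mem (inv_mem mx1) (hW1 h'))
      · refine hz ?_
        have h'' := mul_mem (inv_mem (hW2 h')) (mul_mem mx my)
        rwa [show (x * y * z⁻¹)⁻¹ * (x * y) = z by group] at h''
    have hc : ⁅y, z⁆ = ⁅x, y⁆ * ⁅x, z⁆ := by
      rcases mem_four h4 S.sqW (S.commW x y) (S.commW x z) hne_xy hne_xz hd1 (S.commW y z) with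
        h | h | h | h
      · exact absurd h hne_yz
      · exact absurd h.symm hd2
      · exact absurd h.symm hd3
      · exact h
    have hxy : x * y ∉ W := fun h' => hy (by simpa using mul_mem (inv_mem mx1) (hW1 h'))
    have h1 : ⁅x * y, x * z⁆ = 1 := by
      rw [comm_mul_right' S.cen S.sq, comm_mul_left' S.cen S.sq, comm_mul_left' S.cen S.sq,
        commutatorElement_self, one_mul, hinv x y, hc]
      rw [← mul_assoc]
      exact S.sqW _ (mul_mem (S.commW x y) (S.commW x z))
    rcases hsmall _ hxy _ h1 with h' | h'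
    · exact hz (by simpa using mul_mem (inv_mem mx) (hW2 h'))
    · refine hz ?_
      have h'' := mul_mem (mul_mem (inv_mem mx) (hW2 h')) (mul_mem mx my)
      rwa [show x⁻¹ * (x * z * (x * y)⁻¹) * (x * y) = z by group] at h''
  set B := W ⊔ zpowers u ⊔ zpowers v with hB
  have hWB : W ≤ B := le_sup_left.trans le_sup_left
  have hBc : Nat.card B = 16 := by rw [hB, S.card_sup le_sup_left hv, S.card_sup le_rfl hu, h4]
  have hBi : B.index = 2 := by
    have := B.card_mul_index
    rw [hBc, hX] at this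
    omega
  have hBab : IsMulCommutative B := by
    refine PGroups.isMulCommutative_sup_zpowers (PGroups.isMulCommutative_sup_zpowers S.abW
      (mem_centralizer_iff.mpr fun w hw => (S.cen w hw u).symm.eq)) ?_
    refine mem_centralizer_iff.mpr fun t ht => ?_
    have hle : W ⊔ zpowers u ≤ centralizer {v} :=
      sup_le (fun w hw => mem_centralizer_singleton_iff.mpr (S.cen w hw v).symm.eq)
        (zpowers_le.mpr (mem_centralizer_singleton_iff.mpr huv.eq))
    exact mem_centralizer_singleton_iff.mp (hle ht)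
  refine c.false_of_index_two hBi fun φ _ b hb => ?_
  by_contra hne
  set B' := B.map (φ : X ≃* X).toMonoidHom with hB'
  have hcard' : Nat.card B' = 16 := by
    rw [hB', Nat.card_congr (B.equivMapOfInjective _ (φ : X ≃* X).injective).toEquiv.symm, hBc]
  have hB'i : B'.index = 2 := by
    have := B'.card_mul_index
    rw [hcard', hX] at this
    omega
  have hint : B ⊓ B' ≤ W := by
    intro t ht
    refine S.mem_of_central fun g => ?_
    have hle : B ⊔ B' ≤ centralizer {t} := by
      refine sup_le (fun s hs => mem_centralizer_singleton_iff.mpr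
        (PGroups.comm_of_isMulCommutative hBab hs ht.1)) ?_
      rintro _ ⟨s, hs, rfl⟩
      obtain ⟨r, hr, hrt⟩ := ht.2
      rw [← hrt]
      refine mem_centralizer_singleton_iff.mpr ?_
      rw [← map_mul, ← map_mul, PGroups.comm_of_isMulCommutative hBab hs hr]
    have htop : B ⊔ B' = ⊤ := by
      have hlt : B < B ⊔ B' := lt_of_le_of_ne le_sup_left fun h =>
        hne (h ▸ mem_sup_right (Subgroup.mem_map_of_mem _ hb))
      refine Subgroup.eq_top_of_le_card _ ?_
      have h1 := Subgroup.card_dvd_of_le hlt.le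
      have h2 := Subgroup.card_subgroup_dvd_card (B ⊔ B')
      rw [hBc] at h1
      rw [hX] at h2
      have h3 : Nat.card ↥(B ⊔ B') ≠ 16 := fun h =>
        hlt.ne (eq_of_le_of_card_ge hlt.le (by rw [h, hBc]))
      have h4' := Nat.le_of_dvd (by norm_num) h2
      have h5 : 0 < Nat.card ↥(B ⊔ B') := Nat.card_pos
      obtain ⟨m, hm⟩ := h1
      omega
    exact mem_centralizer_singleton_iff.mp ((htop ▸ hle) (mem_top g))
  have h1 := index_inf_le (H := B) (K := B')
  rw [hBi, hB'i] at h1
  have h2 := (B ⊓ B').card_mul_index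
  have h3 := card_le_of_le hint
  rw [h4] at h3
  rw [hX] at h2
  nlinarith

/-- Order at least 128 is impossible when the centre has order four. -/
theorem card_lt (c : Ctx X A) (h4 : Nat.card W = 4) : Nat.card X < 128 := by
  classical
  haveI := Fintype.ofFinite X
  by_contra hge
  obtain ⟨k, hk⟩ := IsPGroup.iff_card.mp c.two
  have hk7 : 7 ≤ k := (Nat.pow_le_pow_iff_right (show 1 < 2 by norm_num)).mp (by rw [← hk]; omega)
  have hcardX : (Fintype.card X : ℤ) = 2 ^ k := by
    rw [← Nat.card_eq_fintype_card, hk]; push_cast; rfl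
  have hfour : ∀ Z : Subgroup X, (∀ w ∈ W, ∀ v ∈ W, w ∉ Z → v ∉ Z → w * v ∈ Z) →
      (32 : ℤ) ∣ ∑ x, sgn Z (x * x) := by
    intro Z hZ
    have h1 := sum_sgn_sq S.cen S.sq hZ
    have h2 : (Nat.card W : ℤ) ∣ ∑ y, if ∀ x, sgn Z ⁅y, x⁆ = 1 then sgn Z (y * y) else 0 := by
      refine card_dvd_sum W _ fun y w hw => ?_
      have e1 : ∀ x, ⁅y * w, x⁆ = ⁅y, x⁆ := fun x => by
        rw [comm_mul_left' S.cen S.sq, commutatorElement_eq_one_iff_commute.mpr (S.cen w hw x).symm,
          mul_one]
      have e2 : y * w * (y * w) = y * y := by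
        rw [square_mul S.cen S.sq, S.sqW w hw, mul_one,
          commutatorElement_eq_one_iff_commute.mpr (S.cen w hw y).symm, mul_one]
      simp only [e1, e2]
    obtain ⟨T, hT⟩ := h2
    rw [hT, hcardX, h4] at h1
    have h3 : (2 : ℤ) ^ (2 * 4 + 1) ∣ (∑ x, sgn Z (x * x)) ^ 2 := by
      rw [h1, ← mul_assoc, show ((4 : ℕ) : ℤ) = 2 ^ 2 by norm_num, ← pow_add]
      exact dvd_mul_of_dvd_left (pow_dvd_pow 2 (by omega)) _
    have h5 := two_pow_dvd_of_sq h3
    norm_num at h5
    exact h5
  obtain ⟨a, haW, ha1⟩ : ∃ a ∈ W, a ≠ 1 := by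
    by_contra hcon
    push Not at hcon
    rw [eq_bot_iff_forall W |>.mpr hcon, card_bot] at h4
    omega
  obtain ⟨b, hbW, hb⟩ : ∃ b ∈ W, b ∉ zpowers a := by
    by_contra hcon
    push Not at hcon
    have h1 := card_le_of_le (show W ≤ zpowers a from hcon)
    rw [h4, Nat.card_zpowers] at h1
    have h3 : orderOf a ≤ 2 :=
      orderOf_le_of_pow_eq_one (by norm_num) (by rw [_root_.sq, S.sqW a haW])
    omega
  rw [mem_zpowers_of_sq (S.sqW a haW)] at hb
  push Not at hb
  obtain ⟨hb1, hba⟩ := hb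
  have hab1 : a * b ≠ 1 := fun h => hba (by
    rw [eq_inv_of_mul_eq_one_right h, inv_eq_self (S.sqW a haW)])
  have habW := mul_mem haW hbW
  have hzp : ∀ d ∈ W, d ≠ 1 → ∀ w ∈ W, ∀ v ∈ W, w ∉ zpowers d → v ∉ zpowers d → w * v ∈ zpowers d := by
    intro d hd hd1 w hw v hv h1 h2
    rw [mem_zpowers_of_sq (S.sqW d hd)] at h1 h2 ⊢
    push Not at h1 h2
    rcases mem_four h4 S.sqW hd hw hd1 h1.1 (Ne.symm h1.2) hv with h | h | h | h
    · exact absurd h h2.1
    · exact absurd h h2.2
    · left; rw [h]; exact S.sqW w hw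
    · right; rw [h, ← mul_assoc, (S.cen d hd w).eq, mul_assoc, S.sqW w hw, mul_one]
  have hS1 := hfour _ (hzp a haW ha1)
  have hS2 := hfour _ (hzp b hbW hb1)
  have hS3 := hfour _ (hzp _ habW hab1)
  have hpt : ∀ x : X, (1 : ℤ) + sgn (zpowers a) (x * x) + sgn (zpowers b) (x * x) +
      sgn (zpowers (a * b)) (x * x) = if x ∈ W then 4 else 0 := by
    intro x
    have hiff : x ∈ W ↔ x * x = 1 := ⟨S.sqW x, S.invol h4 x⟩
    have e1 : b ≠ a * b := fun h => ha1 (right_eq_mul.mp h)
    have e2 : a ≠ a * b := fun h => hb1 (left_eq_mul.mp h)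
    simp only [sgn, mem_zpowers_of_sq (S.sqW a haW), mem_zpowers_of_sq (S.sqW b hbW),
      mem_zpowers_of_sq (S.sqW _ habW), hiff]
    rcases mem_four h4 S.sqW haW hbW ha1 hb1 (Ne.symm hba) (S.sq x) with h | h | h | h <;>
      rw [h] <;> simp [ha1, hb1, hab1, hba, Ne.symm hba, e1, e2, Ne.symm e1, Ne.symm e2]
  have hsum : ∑ x : X, (if x ∈ W then (4 : ℤ) else 0) = 16 := by
    rw [← Finset.sum_filter, Finset.sum_const, ← Fintype.card_subtype, ← Nat.card_eq_fintype_card]
    rw [show Nat.card {x : X // x ∈ W} = 4 from h4]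
    norm_num
  simp only [← hpt, Finset.sum_add_distrib, Finset.sum_const, Finset.card_univ, nsmul_eq_mul,
    mul_one] at hsum
  have hX32 : (32 : ℤ) ∣ Fintype.card X := by
    rw [hcardX, show (32 : ℤ) = 2 ^ 5 by norm_num]
    exact pow_dvd_pow 2 (by omega)
  obtain ⟨m0, e0⟩ := hX32
  obtain ⟨m1, e1'⟩ := hS1
  obtain ⟨m2, e2'⟩ := hS2
  obtain ⟨m3, e3'⟩ := hS3
  rw [e0, e1', e2', e3'] at hsum
  omega

/-- Centre of order four: order 64 and three involutions. -/
theorem result_four (c : Ctx X A) (h4 : Nat.card W = 4) :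
    Nat.card X = 64 ∧ Nat.card {x : X // orderOf x = 2} = 3 := by
  classical
  haveI := Fintype.ofFinite X
  haveI : Fact (Nat.Prime 2) := ⟨Nat.prime_two⟩
  constructor
  · obtain ⟨k, hk⟩ := IsPGroup.iff_card.mp c.two
    have h1 := S.card_gt c h4
    have h2 := S.card_lt c h4
    rw [hk] at h1 h2 ⊢
    have h1' : 5 < k := (Nat.pow_lt_pow_iff_right (show 1 < 2 by norm_num)).mp (by simpa using h1)
    have h2' : k < 7 := (Nat.pow_lt_pow_iff_right (show 1 < 2 by norm_num)).mp (by simpa using h2)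
    rw [show k = 6 by omega]
    norm_num
  · have h1 : ∀ x : X, orderOf x = 2 ↔ x ∈ W ∧ x ≠ 1 := fun x => by
      rw [orderOf_eq_prime_iff, _root_.sq]
      exact ⟨fun h => ⟨S.invol h4 x h.1, h.2⟩, fun h => ⟨S.sqW x h.1, h.2⟩⟩
    rw [Nat.card_eq_fintype_card, Fintype.card_subtype]
    rw [show (Finset.univ.filter fun x : X => orderOf x = 2) =
        (Finset.univ.filter fun x : X => x ∈ W).erase 1 by ext x; simp [h1, and_comm]]
    rw [Finset.card_erase_of_mem (by simp), ← Fintype.card_subtype, ← Nat.card_eq_fintype_card,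
      show Nat.card {x : X // x ∈ W} = 4 from h4]

end Struct

end Cfsg.Agent.H91.Scn
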