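import Cfsg.Agent.H91.Scn.Core
import Mathlib.Algebra.BigOperators.Ring.Finset

/-!
Gauss sums of the squaring map.
-/

set_option autoImplicit false

namespace Cfsg.Agent.H91.Scn

open Subgroup
open scoped commutatorElement

/-- The square of a Gauss sum is supported on the radical. -/
theorem gauss {G : Type*} [Group G] [Fintype G] [DecidableEq G] (f : G → ℤ) (χ : G → G → ℤ)
    (hf : ∀ x, f x * f x = 1) (hmul : ∀ x y, f (x * y) = f x * f y * χ x y)
    (hχ : ∀ x x' y, χ (x * x') y = χ x y * χ x' y) :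
    (∑ x, f x) ^ 2 = (Fintype.card G : ℤ) * ∑ y, if ∀ x, χ x y = 1 then f y else 0 := by
  rw [sq, Finset.sum_mul_sum]
  have h1 : ∀ x, ∑ z, f x * f z = ∑ y, f y * χ x y := fun x => by
    refine (Fintype.sum_equiv (Equiv.mulLeft x) _ _ fun y => ?_).symm
    rw [Equiv.coe_mulLeft, hmul, ← mul_assoc, ← mul_assoc, hf, one_mul]
  simp only [h1]
  rw [Finset.sum_comm, Finset.mul_sum]
  refine Finset.sum_congr rfl fun y _ => ?_
  rw [← Finset.mul_sum]
  split_ifs with h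
  · simp [h, mul_comm]
  · push Not at h
    obtain ⟨x₀, hx₀⟩ := h
    have h2 : χ x₀ y * ∑ x, χ x y = ∑ x, χ x y := by
      rw [Finset.mul_sum]
      exact Fintype.sum_equiv (Equiv.mulLeft x₀) _ _ fun x => (hχ x₀ x y).symm
    rw [mul_zero]
    by_cases hs : ∑ x, χ x y = 0
    · rw [hs, mul_zero]
    · exact absurd ((mul_eq_right₀ hs).mp h2) hx₀

/-- A function constant on cosets sums to a multiple of the order of the subgroup. -/
theorem card_dvd_sum {G : Type*} [Group G] [Fintype G] (H : Subgroup G) (g : G → ℤ)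
    (hg : ∀ x, ∀ h ∈ H, g (x * h) = g x) : (Nat.card H : ℤ) ∣ ∑ x, g x := by
  classical
  refine ⟨∑ q : G ⧸ H, g q.out, ?_⟩
  calc ∑ x, g x = ∑ x : G, g (QuotientGroup.mk (s := H) x).out := by
        refine Finset.sum_congr rfl fun x _ => ?_
        obtain ⟨h, hh⟩ := QuotientGroup.mk_out_eq_mul H x
        rw [hh, hg x h h.2]
    _ = ∑ p : (G ⧸ H) × H, g p.1.out :=
        Fintype.sum_equiv (Subgroup.groupEquivQuotientProdSubgroup (s := H))
          (fun x : G => g (QuotientGroup.mk (s := H) x).out) (fun p => g p.1.out) fun x => rfl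
    _ = _ := by rw [Fintype.sum_prod_type, Finset.mul_sum, Nat.card_eq_fintype_card]; simp [mul_comm]

theorem two_pow_dvd_of_sq {j : ℕ} : ∀ {S : ℤ}, (2 : ℤ) ^ (2 * j + 1) ∣ S ^ 2 → (2 : ℤ) ^ (j + 1) ∣ S := by
  induction j with
  | zero =>
    intro S h
    simpa using Int.prime_two.dvd_of_dvd_pow h
  | succ j ih =>
    intro S h
    obtain ⟨S', rfl⟩ := Int.prime_two.dvd_of_dvd_pow ((dvd_pow_self 2 (by omega)).trans h)
    rw [mul_pow, show 2 * (j + 1) + 1 = 2 + (2 * j + 1) by omega, pow_add] at h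
    rw [pow_succ']
    exact mul_dvd_mul_left 2 (ih ((mul_dvd_mul_iff_left (by norm_num)).mp h))

section

variable {X : Type*} [Group X]

open Classical in
/-- The sign attached to the subgroup `Z`. -/
noncomputable def sgn (Z : Subgroup X) (w : X) : ℤ := if w ∈ Z then 1 else -1

theorem sgn_mul {W Z : Subgroup X} (hZ : ∀ w ∈ W, ∀ v ∈ W, w ∉ Z → v ∉ Z → w * v ∈ Z) {w v : X}
    (hw : w ∈ W) (hv : v ∈ W) : sgn Z (w * v) = sgn Z w * sgn Z v := by
  classical
  simp only [sgn]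
  by_cases h1 : w ∈ Z
  · rw [if_pos h1, one_mul]; exact if_congr (Subgroup.mul_mem_cancel_left Z h1) rfl rfl
  by_cases h2 : v ∈ Z
  · rw [if_pos h2, mul_one]; exact if_congr (Subgroup.mul_mem_cancel_right Z h2) rfl rfl
  simp [h1, h2, hZ w hw v hv h1 h2]

theorem sgn_mul_self (Z : Subgroup X) (w : X) : sgn Z w * sgn Z w = 1 := by
  simp only [sgn]; split_ifs <;> norm_num

theorem sgn_one (Z : Subgroup X) : sgn Z 1 = 1 := by simp [sgn]

variable {W : Subgroup X} (cen : ∀ w ∈ W, ∀ g : X, Commute g w) (sq : ∀ x : X, x * x ∈ W)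
include cen sq

theorem comm_mul_right' (u x y : X) : ⁅u, x * y⁆ = ⁅u, x⁆ * ⁅u, y⁆ := by
  have h : ⁅u, x * y⁆ = ⁅u, x⁆ * (x * ⁅u, y⁆ * x⁻¹) := by simp only [commutatorElement_def]; group
  have hm : ⁅u, y⁆ ∈ W := sq_closed_commutator (H := ⊤) (fun z _ => sq z) (mem_top _) (mem_top _)
  rw [h, (cen _ hm x).eq, mul_inv_cancel_right]

theorem comm_mul_left' (u x y : X) : ⁅x * y, u⁆ = ⁅x, u⁆ * ⁅y, u⁆ := by
  have h : ⁅x * y, u⁆ = x * ⁅y, u⁆ * x⁻¹ * ⁅x, u⁆ := by simp only [commutatorElement_def]; group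
  have hm : ⁅x, u⁆ ∈ W := sq_closed_commutator (H := ⊤) (fun z _ => sq z) (mem_top _) (mem_top _)
  have hm' : ⁅y, u⁆ ∈ W := sq_closed_commutator (H := ⊤) (fun z _ => sq z) (mem_top _) (mem_top _)
  rw [h, (cen _ hm' x).eq, mul_inv_cancel_right, (cen _ hm _).eq]

theorem square_mul (x y : X) : x * y * (x * y) = x * x * (y * y) * ⁅y, x⁆ := by
  have hm : ⁅y, x⁆ ∈ W := sq_closed_commutator (H := ⊤) (fun z _ => sq z) (mem_top _) (mem_top _)
  calc x * y * (x * y) = x * (⁅y, x⁆ * x * y) * y := by simp only [commutatorElement_def]; group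
    _ = (x * ⁅y, x⁆) * (x * y * y) := by simp only [mul_assoc]
    _ = ⁅y, x⁆ * (x * x * (y * y)) := by rw [(cen _ hm x).eq]; simp only [mul_assoc]
    _ = _ := (cen _ hm _).symm.eq

/-- The square of the Gauss sum attached to `Z`. -/
theorem sum_sgn_sq [Fintype X] [DecidableEq X] {Z : Subgroup X}
    (hZ : ∀ w ∈ W, ∀ v ∈ W, w ∉ Z → v ∉ Z → w * v ∈ Z) :
    (∑ x, sgn Z (x * x)) ^ 2 =
      (Fintype.card X : ℤ) * ∑ y, if ∀ x, sgn Z ⁅y, x⁆ = 1 then sgn Z (y * y) else 0 := by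
  have hm : ∀ a b : X, ⁅a, b⁆ ∈ W := fun a b =>
    sq_closed_commutator (H := ⊤) (fun z _ => sq z) (mem_top _) (mem_top _)
  refine gauss (fun x => sgn Z (x * x)) (fun x y => sgn Z ⁅y, x⁆) (fun x => sgn_mul_self Z _)
    (fun x y => ?_) (fun x x' y => ?_)
  · rw [square_mul cen sq, sgn_mul hZ (mul_mem (sq x) (sq y)) (hm y x), sgn_mul hZ (sq x) (sq y)]
  · rw [comm_mul_right' cen sq, sgn_mul hZ (hm y x) (hm y x')]

end

end Cfsg.Agent.H91.Scn
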