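import Cfsg.Agent.H91.Scn.Powers

/-!
A self-centralising homocyclic normal subgroup with central involutions acted on nontrivially.
-/

set_option autoImplicit false

namespace Cfsg.Agent.H91.Scn

open Subgroup
open scoped commutatorElement

variable {X : Type*} [Group X] [Finite X] {A : Subgroup (MulAut X)}

/-- Everything needed about the abelian subgroup `D` with `|Ω₁ D| = 4`. -/
structure Level (A : Subgroup (MulAut X)) (D W : Subgroup X) (a : ℕ) (ψ : MulAut X) : Prop where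
  homo : Homo D a
  two : 2 ≤ a
  self : ∀ x : X, (∀ d ∈ D, Commute x d) → x ∈ D
  inv : ∀ φ ∈ A, ∀ d ∈ D, φ d ∈ D
  hWD : W ≤ D
  hWmem : ∀ d ∈ D, d * d = 1 → d ∈ W
  sqW : ∀ w ∈ W, w * w = 1
  card : Nat.card W = 4
  cen : ∀ w ∈ W, ∀ g : X, Commute g w
  psi : ψ ∈ A
  fix : ∀ w ∈ W, ψ w = w → w = 1
  cube : ∀ w ∈ W, ψ (ψ (ψ w)) = w
  sum : ∀ w ∈ W, w * ψ w * ψ (ψ w) = 1
  pows : ∀ φ ∈ A, (∀ w ∈ W, φ w = w) ∨ (∀ w ∈ W, φ w = ψ w) ∨ (∀ w ∈ W, φ w = ψ (ψ w))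

namespace Level

variable (c : Ctx X A) {D W : Subgroup X} {a : ℕ} {ψ : MulAut X} (L : Level A D W a ψ)
include L

/-- `S i`: commuting with the `2 ^ i`-th powers. -/
theorem not_all_zero {x : X} (hx : x ∉ D) : ¬ ∀ t ∈ D, Commute x (t ^ 2 ^ 0) := fun h =>
  hx (L.self x fun d hd => by simpa using h d hd)

theorem pred_mem {i : ℕ} {y : X} (h1 : ∀ t ∈ D, Commute y (t ^ 2 ^ (i + 1))) {t : X} (ht : t ∈ D) :
    ⁅y, t ^ 2 ^ i⁆ ∈ W := by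
  refine L.hWmem _ (L.homo.comm_mem (pow_mem ht _)) ?_
  rw [← sq, ← L.homo.comm_pow_right (pow_mem ht _), ← pow_mul, ← pow_succ,
    commutatorElement_eq_one_iff_commute]
  exact h1 t ht

theorem mem_top_pow {w : X} (hw : w ∈ W) : ∃ t ∈ D, t ^ 2 ^ (a - 1) = w :=
  L.homo.top w (L.hWD hw) (L.sqW w hw)

theorem pow_top_mem {t : X} (ht : t ∈ D) : t ^ 2 ^ (a - 1) ∈ W := by
  refine L.hWmem _ (pow_mem ht _) ?_
  rw [← pow_add, ← two_mul, ← pow_succ', show a - 1 + 1 = a by have := L.two; omega]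
  exact L.homo.exp t ht

theorem sq_of_ker {t : X} (ht : t ∈ D) (h : t ^ 2 ^ (a - 1) = 1) : ∃ s ∈ D, s * s = t := by
  obtain ⟨s, hs, hst⟩ := L.homo.eq_pow (j := a - 1) (by omega) t ht h
  refine ⟨s, hs, ?_⟩
  rwa [show a - (a - 1) = 1 by have := L.two; omega, pow_one, sq] at hst

include c

/-- The first level at which `X` acts. -/
theorem level_data (hnc : ∃ x, x ∉ D) : ∃ i, i + 2 ≤ a ∧
    (∀ y : X, ∀ t ∈ D, Commute y (t ^ 2 ^ (i + 1))) ∧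
    (∃ x, ¬ ∀ t ∈ D, Commute x (t ^ 2 ^ i)) ∧
    (∀ x, (¬ ∀ t ∈ D, Commute x (t ^ 2 ^ i)) → ∀ t ∈ D, ⁅x, t ^ 2 ^ i⁆ = 1 → t ^ 2 ^ (a - 1) = 1) ∧
    (∀ x, (¬ ∀ t ∈ D, Commute x (t ^ 2 ^ i)) →
      ∃ t ∈ D, ⁅x, t ^ 2 ^ i⁆ ≠ t ^ 2 ^ (a - 1)) := by
  classical
  have hall : ∃ j, ∀ y : X, ∀ t ∈ D, Commute y (t ^ 2 ^ j) :=
    ⟨a - 1, fun y t ht => L.cen _ (L.pow_top_mem ht) y⟩
  set j := Nat.find hall with hj
  have hj0 : j ≠ 0 := by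
    intro h0
    obtain ⟨x, hx⟩ := hnc
    have := Nat.find_spec hall
    rw [← hj, h0] at this
    exact L.not_all_zero hx (this x)
  obtain ⟨i, hi⟩ : ∃ i, j = i + 1 := ⟨j - 1, by omega⟩
  have hja : j ≤ a - 1 := Nat.find_min' hall fun y t ht => L.cen _ (L.pow_top_mem ht) y
  have hspec : ∀ y : X, ∀ t ∈ D, Commute y (t ^ 2 ^ (i + 1)) := by
    have := Nat.find_spec hall
    rwa [← hj, hi] at this
  have hex : ∃ x, ¬ ∀ t ∈ D, Commute x (t ^ 2 ^ i) := by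
    have := Nat.find_min hall (show i < Nat.find hall by rw [← hj, hi]; omega)
    push Not at this ⊢
    exact this
  have hmem : ∀ (x : X), ∀ t ∈ D, ⁅x, t ^ 2 ^ i⁆ ∈ W := fun x t ht => L.pred_mem (hspec x) ht
  have hmulx : ∀ (x y : X), ∀ t ∈ D, ⁅x * y, t ^ 2 ^ i⁆ = ⁅x, t ^ 2 ^ i⁆ * ⁅y, t ^ 2 ^ i⁆ := by
    intro x y t ht
    rw [L.homo.comm_mul_left (L.cen _ (hmem y t ht) x) (pow_mem ht _)]
    exact (L.cen _ (hmem x t ht) _).eq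
  have hmult : ∀ (x : X), ∀ t ∈ D, ∀ t' ∈ D,
      ⁅x, (t * t') ^ 2 ^ i⁆ = ⁅x, t ^ 2 ^ i⁆ * ⁅x, t' ^ 2 ^ i⁆ := fun x t ht t' ht' => by
    rw [L.homo.pow_mul_pow ht ht', L.homo.comm_mul_right (pow_mem ht _) (pow_mem ht' _)]
  -- the value depends only on the image in `W`
  have hcongr : ∀ (x : X), ∀ t ∈ D, ∀ t' ∈ D, t ^ 2 ^ (a - 1) = t' ^ 2 ^ (a - 1) →
      ⁅x, t ^ 2 ^ i⁆ = ⁅x, t' ^ 2 ^ i⁆ := by
    intro x t ht t' ht' h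
    obtain ⟨s, hs, hst⟩ := L.sq_of_ker (mul_mem ht (inv_mem ht')) (by
      rw [L.homo.pow_mul_pow ht (inv_mem ht'), inv_pow, h, mul_inv_cancel])
    have h1 : ⁅x, (s * s) ^ 2 ^ i⁆ = 1 := by
      rw [hmult x s hs s hs, L.sqW _ (hmem x s hs)]
    have h2 := hmult x (s * s) (mul_mem hs hs) t' ht'
    rwa [h1, one_mul, hst, inv_mul_cancel_right] at h2
  have hinvD : ∀ φ ∈ A, ∀ t ∈ D, φ⁻¹ t ∈ D := fun φ hφ t ht => L.inv _ (inv_mem hφ) t ht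
  have hequiv : ∀ φ ∈ A, ∀ (x : X), ∀ t ∈ D,
      ⁅φ x, t ^ 2 ^ i⁆ = φ ⁅x, (φ⁻¹ t) ^ 2 ^ i⁆ := by
    intro φ _ x t _
    rw [map_commutatorElement, map_pow, MulAut.inv_apply, MulEquiv.apply_symm_apply]
  have hψψ : ∀ t ∈ D, ψ (ψ t) ∈ D := fun t ht => L.inv _ L.psi _ (L.inv _ L.psi t ht)
  -- the averaged action vanishes
  have hF : ∀ (x : X), ∀ t ∈ D,
      ⁅x, t ^ 2 ^ i⁆ * ψ ⁅x, (ψ (ψ t)) ^ 2 ^ i⁆ * ψ (ψ ⁅x, (ψ t) ^ 2 ^ i⁆) = 1 := by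
    intro x₀ t ht
    have hWinv : ∀ w ∈ W, ψ w ∈ W := fun w hw => L.hWmem _ (L.inv _ L.psi w (L.hWD hw))
      (by rw [← map_mul, L.sqW w hw, map_one])
    let f : X →* X := MonoidHom.mk'
      (fun x => ⁅x, t ^ 2 ^ i⁆ * ψ ⁅x, (ψ (ψ t)) ^ 2 ^ i⁆ * ψ (ψ ⁅x, (ψ t) ^ 2 ^ i⁆)) (by
        intro x y
        have e1 := hmulx x y t ht
        have e2 := hmulx x y _ (hψψ t ht)
        have e3 := hmulx x y _ (L.inv _ L.psi t ht)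
        simp only [e1, e2, e3, map_mul]
        have m1 := hmem y t ht
        have m2 := hWinv _ (hmem y _ (hψψ t ht))
        calc _ = ⁅x, t ^ 2 ^ i⁆ * (⁅y, t ^ 2 ^ i⁆ * ψ ⁅x, (ψ (ψ t)) ^ 2 ^ i⁆) *
              ((ψ ⁅y, (ψ (ψ t)) ^ 2 ^ i⁆) * ψ (ψ ⁅x, (ψ t) ^ 2 ^ i⁆)) *
              ψ (ψ ⁅y, (ψ t) ^ 2 ^ i⁆) := by simp only [mul_assoc]
          _ = ⁅x, t ^ 2 ^ i⁆ * ψ ⁅x, (ψ (ψ t)) ^ 2 ^ i⁆ * (⁅y, t ^ 2 ^ i⁆ *
              ψ (ψ ⁅x, (ψ t) ^ 2 ^ i⁆)) *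
              ((ψ ⁅y, (ψ (ψ t)) ^ 2 ^ i⁆) * ψ (ψ ⁅y, (ψ t) ^ 2 ^ i⁆)) := by
            rw [← (L.cen _ m1 (ψ ⁅x, (ψ (ψ t)) ^ 2 ^ i⁆)).eq,
              ← (L.cen _ m2 (ψ (ψ ⁅x, (ψ t) ^ 2 ^ i⁆))).eq]
            simp only [mul_assoc]
          _ = _ := by
            rw [← (L.cen _ m1 (ψ (ψ ⁅x, (ψ t) ^ 2 ^ i⁆))).eq]
            simp only [mul_assoc])
    refine c.hom_eq_one f (fun φ hφ x => ?_) x₀
    show ⁅φ x, t ^ 2 ^ i⁆ * ψ ⁅φ x, (ψ (ψ t)) ^ 2 ^ i⁆ * ψ (ψ ⁅φ x, (ψ t) ^ 2 ^ i⁆) =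
      ⁅x, t ^ 2 ^ i⁆ * ψ ⁅x, (ψ (ψ t)) ^ 2 ^ i⁆ * ψ (ψ ⁅x, (ψ t) ^ 2 ^ i⁆)
    have hp : ∀ s ∈ D, s ^ 2 ^ (a - 1) ∈ W := fun s hs => L.pow_top_mem hs
    have key : ∀ (φ' : MulAut X), φ' ∈ A → ∀ (x : X), ∀ s ∈ D, ∀ s' ∈ D,
        φ' (s' ^ 2 ^ (a - 1)) = s ^ 2 ^ (a - 1) → ⁅φ' x, s ^ 2 ^ i⁆ = φ' ⁅x, s' ^ 2 ^ i⁆ := by
      intro φ' hφ' x s hs s' hs' h
      rw [hequiv φ' hφ' x s hs]
      congr 1
      refine hcongr x _ (hinvD φ' hφ' s hs) _ hs' ?_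
      rw [← map_pow, ← h, MulAut.inv_apply, MulEquiv.symm_apply_apply]
    have hwin : ∀ s ∈ D, ∀ (φ' : MulAut X), φ' ∈ A → ⁅x, s ^ 2 ^ i⁆ ∈ W := fun s hs _ _ => hmem x s hs
    have m0 := hmem x t ht
    have m1 := hmem x _ (hψψ t ht)
    have m2 := hmem x _ (L.inv _ L.psi t ht)
    have c3 : ∀ s ∈ D, ψ (ψ (ψ (s ^ 2 ^ (a - 1)))) = s ^ 2 ^ (a - 1) := fun s hs => L.cube _ (hp s hs)
    have hmp : ∀ s : X, (ψ s) ^ 2 ^ (a - 1) = ψ (s ^ 2 ^ (a - 1)) := fun s => (map_pow ψ s _).symm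
    rcases L.pows φ hφ with h | h | h
    · rw [key φ hφ x t ht t ht (h _ (hp t ht)),
        key φ hφ x _ (hψψ t ht) _ (hψψ t ht) (h _ (hp _ (hψψ t ht))),
        key φ hφ x _ (L.inv _ L.psi t ht) _ (L.inv _ L.psi t ht) (h _ (hp _ (L.inv _ L.psi t ht))),
        h _ m0, h _ m1, h _ m2]
    · rw [key φ hφ x t ht _ (hψψ t ht) (by rw [h _ (hp _ (hψψ t ht))]; simp only [hmp]; exact c3 t ht),
        key φ hφ x _ (hψψ t ht) _ (L.inv _ L.psi t ht) (by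
          rw [h _ (hp _ (L.inv _ L.psi t ht))]; simp only [hmp]),
        key φ hφ x _ (L.inv _ L.psi t ht) t ht (by rw [h _ (hp t ht)]; simp only [hmp]),
        h _ m1, h _ m2, h _ m0, L.cube _ m0, (L.cen _ m0 _).eq, mul_assoc]
    · rw [key φ hφ x t ht _ (L.inv _ L.psi t ht) (by
          rw [h _ (hp _ (L.inv _ L.psi t ht))]; simp only [hmp]; exact c3 t ht),
        key φ hφ x _ (hψψ t ht) t ht (by rw [h _ (hp t ht)]; simp only [hmp]),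
        key φ hφ x _ (L.inv _ L.psi t ht) _ (hψψ t ht) (by
          rw [h _ (hp _ (hψψ t ht))]; simp only [hmp]; rw [c3 t ht]),
        h _ m2, h _ m0, h _ m1, L.cube _ m0,
        show ψ (ψ (ψ (ψ ⁅x, (ψ (ψ t)) ^ 2 ^ i⁆))) = ψ ⁅x, (ψ (ψ t)) ^ 2 ^ i⁆ by rw [L.cube _ m1]]
      rw [(L.cen _ m0 _).eq, mul_assoc, (L.cen _ (hWinv _ m1) _).eq, ← mul_assoc]
  refine ⟨i, by have := L.two; omega, hspec, hex, ?_, ?_⟩
  · intro x hx t ht h1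
    by_contra ht1
    refine hx fun s hs => commutatorElement_eq_one_iff_commute.mp ?_
    have hp : ∀ s ∈ D, s ^ 2 ^ (a - 1) ∈ W := fun s hs => L.pow_top_mem hs
    have hψt := L.inv _ L.psi t ht
    have h3 : ψ (ψ t) ^ 2 ^ (a - 1) = t ^ 2 ^ (a - 1) * ψ t ^ 2 ^ (a - 1) := by
      have h := L.sum _ (hp t ht)
      rw [map_pow, map_pow, mul_eq_one_iff_inv_eq, inv_eq_self] at h
      · exact h.symm
      · exact L.sqW _ (mul_mem (hp t ht) (hp _ hψt))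
    have hm : ⁅x, (ψ (ψ t)) ^ 2 ^ i⁆ = ⁅x, (ψ t) ^ 2 ^ i⁆ := by
      rw [hcongr x _ (hψψ t ht) _ (mul_mem ht hψt) (by rw [h3, L.homo.pow_mul_pow ht hψt]),
        hmult x t ht _ hψt, h1, one_mul]
    set m := ⁅x, (ψ t) ^ 2 ^ i⁆ with hmdef
    have hmW : m ∈ W := hmem x _ hψt
    have h4 := hF x t ht
    rw [h1, one_mul, hm, ← map_mul] at h4
    have h5 : m * ψ m = 1 := ψ.injective (by rw [h4, map_one])
    have hm1 : m = 1 := by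
      refine L.fix m hmW ?_
      rw [← inv_eq_of_mul_eq_one_right h5, inv_eq_self (L.sqW m hmW)]
    have hne : t ^ 2 ^ (a - 1) ≠ ψ t ^ 2 ^ (a - 1) := fun h => ht1 (L.fix _ (hp t ht) (by
      rw [map_pow]; exact h.symm))
    have hψ1 : ψ t ^ 2 ^ (a - 1) ≠ 1 := fun h => ht1 (ψ.injective (by rw [map_pow, h, map_one]))
    have hone : ⁅x, (1 : X) ^ 2 ^ i⁆ = 1 := by rw [one_pow, commutatorElement_one_right]
    rcases mem_four L.card L.sqW (hp t ht) (hp _ hψt) ht1 hψ1 hne (hp s hs) with e | e | e | e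
    · rw [hcongr x s hs 1 (one_mem _) (by rw [e, one_pow]), hone]
    · rw [hcongr x s hs t ht e, h1]
    · rw [hcongr x s hs _ hψt e, ← hmdef, hm1]
    · rw [hcongr x s hs _ (mul_mem ht hψt) (by rw [e, L.homo.pow_mul_pow ht hψt]),
        hmult x t ht _ hψt, h1, one_mul, ← hmdef, hm1]
  · intro x hx
    by_contra hcon
    push Not at hcon
    obtain ⟨t₀, ht₀, hne⟩ : ∃ t ∈ D, ⁅x, t ^ 2 ^ i⁆ ≠ 1 := by
      by_contra hc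
      push Not at hc
      exact hx fun t ht => commutatorElement_eq_one_iff_commute.mp (hc t ht)
    have h4 := hF x t₀ ht₀
    have hw := L.pow_top_mem ht₀
    have hmp : ∀ s : X, (ψ s) ^ 2 ^ (a - 1) = ψ (s ^ 2 ^ (a - 1)) := fun s => (map_pow ψ s _).symm
    rw [hcon t₀ ht₀, hcon _ (hψψ t₀ ht₀), hcon _ (L.inv _ L.psi t₀ ht₀)] at h4
    simp only [hmp, L.cube _ hw, L.sqW _ hw, one_mul] at h4
    rw [hcon t₀ ht₀] at hne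
    exact hne h4

end Level

end Cfsg.Agent.H91.Scn
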