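import Cfsg.Agent.H91.Scn.Basic

/-!
An abelian normal subgroup all whose involutions are high powers.
-/

set_option autoImplicit false

namespace Cfsg.Agent.H91.Scn

open Subgroup
open scoped commutatorElement

variable {X : Type*} [Group X]

/-- A normal abelian subgroup of exponent `2 ^ a` in which every involution is a `2 ^ (a-1)`-th
power. -/
structure Homo (D : Subgroup X) (a : ℕ) : Prop where
  comm : ∀ u ∈ D, ∀ v ∈ D, Commute u v
  normal : D.Normal
  exp : ∀ d ∈ D, d ^ 2 ^ a = 1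
  top : ∀ w ∈ D, w * w = 1 → ∃ t ∈ D, t ^ 2 ^ (a - 1) = w

namespace Homo

variable {D : Subgroup X} {a : ℕ} (h : Homo D a)
include h

theorem eq_pow {j : ℕ} : j ≤ a → ∀ v ∈ D, v ^ 2 ^ j = 1 → ∃ t ∈ D, t ^ 2 ^ (a - j) = v := by
  induction j with
  | zero =>
    intro _ v hv h1
    exact ⟨1, one_mem _, by rw [one_pow]; simpa using h1.symm⟩
  | succ j ih =>
    intro hj v hv h1
    obtain ⟨t, ht, htv⟩ := h.top (v ^ 2 ^ j) (pow_mem hv _) (by rw [← pow_add, ← two_mul, ← pow_succ', h1])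
    have hz : (v * (t ^ 2 ^ (a - (j + 1)))⁻¹) ^ 2 ^ j = 1 := by
      rw [(h.comm v hv _ (inv_mem (pow_mem ht _))).mul_pow, inv_pow, ← pow_mul, ← pow_add,
        show a - (j + 1) + j = a - 1 by omega, htv, mul_inv_cancel]
    obtain ⟨s, hs, hsv⟩ := ih (by omega) _ (mul_mem hv (inv_mem (pow_mem ht _))) hz
    refine ⟨s * s * t, mul_mem (mul_mem hs hs) ht, ?_⟩
    rw [(h.comm _ (mul_mem hs hs) t ht).mul_pow, ← sq, ← pow_mul, ← pow_succ',
      show a - (j + 1) + 1 = a - j by omega, hsv, inv_mul_cancel_right]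

theorem pow_mul_pow {u v : X} (hu : u ∈ D) (hv : v ∈ D) (n : ℕ) : (u * v) ^ n = u ^ n * v ^ n :=
  (h.comm u hu v hv).mul_pow n

theorem comm_mul_right {x u v : X} (hu : u ∈ D) (hv : v ∈ D) : ⁅x, u * v⁆ = ⁅x, u⁆ * ⁅x, v⁆ := by
  have h1 : ⁅x, v⁆ ∈ D := by
    rw [commutatorElement_def]
    exact mul_mem (h.normal.conj_mem v hv x) (inv_mem hv)
  have h2 : ⁅x, u * v⁆ = ⁅x, u⁆ * (u * ⁅x, v⁆ * u⁻¹) := by simp only [commutatorElement_def]; group
  rw [h2, (h.comm u hu _ h1).eq, mul_inv_cancel_right]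

theorem comm_pow_right {x u : X} (hu : u ∈ D) (n : ℕ) : ⁅x, u ^ n⁆ = ⁅x, u⁆ ^ n := by
  induction n with
  | zero => simp
  | succ n ih => rw [pow_succ, h.comm_mul_right (pow_mem hu n) hu, ih, ← pow_succ]

theorem comm_mem {x u : X} (hu : u ∈ D) : ⁅x, u⁆ ∈ D := by
  rw [commutatorElement_def]
  exact mul_mem (h.normal.conj_mem u hu x) (inv_mem hu)

/-- The commutator is additive on the left as soon as its values are central. -/
theorem comm_mul_left {x y u : X} (hcen : Commute x ⁅y, u⁆) (hu : u ∈ D) :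
    ⁅x * y, u⁆ = ⁅y, u⁆ * ⁅x, u⁆ := by
  have h2 : ⁅x * y, u⁆ = x * ⁅y, u⁆ * x⁻¹ * ⁅x, u⁆ := by simp only [commutatorElement_def]; group
  rw [h2, hcen.eq, mul_inv_cancel_right]

/-- Squaring in the left argument. -/
theorem comm_sq_left {x u : X} (hu : u ∈ D) :
    ⁅x * x, u⁆ = ⁅x, ⁅x, u⁆⁆ * (⁅x, u⁆ * ⁅x, u⁆) := by
  simp only [commutatorElement_def]; group

end Homo

end Cfsg.Agent.H91.Scn
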