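import Cfsg.Agent.H91.Scn.Powers

/-!
Squaring modulo a central homocyclic subgroup of exponent at least four.
-/

set_option autoImplicit false

namespace Cfsg.Agent.H91.Scn

open Subgroup
open scoped commutatorElement

variable {X : Type*} [Group X]

theorem commute_of_square_map {H D W : Subgroup X} {a : ℕ} (hD : Homo D a) (ha : 2 ≤ a)
    (hsqD : ∀ x ∈ H, x * x ∈ D) (hDH : D ≤ H) (hcenD : ∀ x ∈ H, ∀ d ∈ D, Commute x d)
    (hWD : W ≤ D) (hWmem : ∀ d ∈ D, d * d = 1 → d ∈ W) (hW : ∀ w ∈ W, w * w = 1)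
    (hcard : Nat.card W = 4) (hWcen : ∀ w ∈ W, ∀ g : X, Commute g w)
    (hcomm : ∀ x ∈ H, ∀ y ∈ H, ⁅x, y⁆ ∈ W) (hinvol : ∀ u ∈ H, u * u = 1 → u ∈ D)
    (ψ : MulAut X) (hψH : ∀ x ∈ H, ψ x ∈ H) (hfix : ∀ w ∈ W, ψ w = w → w = 1) :
    ∀ x ∈ H, ∀ y ∈ H, Commute x y := by
  have hD2 : ∀ d ∈ D, d ^ 2 ^ a = 1 := hD.exp
  set q : X → X := fun x => (x * x) ^ 2 ^ (a - 1) with hq
  have hqW : ∀ x ∈ H, q x ∈ W := fun x hx => by
    refine hWmem _ (pow_mem (hsqD x hx) _) ?_
    rw [hq, ← pow_add, ← two_mul, ← pow_succ', show a - 1 + 1 = a by omega]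
    exact hD2 _ (hsqD x hx)
  have hqmul : ∀ x ∈ H, ∀ y ∈ H, q (x * y) = q x * q y := by
    intro x hx y hy
    have hc : ⁅y, x⁆ ∈ W := hcomm y hy x hx
    have h1 : x * y * (x * y) = ⁅y, x⁆ * ((x * x) * (y * y)) := by
      calc x * y * (x * y) = x * (⁅y, x⁆ * x * y) * y := by simp only [commutatorElement_def]; group
        _ = (x * ⁅y, x⁆) * (x * y * y) := by simp only [mul_assoc]
        _ = _ := by rw [(hWcen _ hc x).eq]; simp only [mul_assoc]
    simp only [hq]
    rw [h1, hD.pow_mul_pow (hWD hc) (mul_mem (hsqD x hx) (hsqD y hy)),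
      hD.pow_mul_pow (hsqD x hx) (hsqD y hy)]
    have : ⁅y, x⁆ ^ 2 ^ (a - 1) = 1 := by
      rw [show a - 1 = (a - 2) + 1 by omega, pow_succ', pow_mul, sq, hW _ hc, one_pow]
    rw [this, one_mul]
  have hker : ∀ x ∈ H, q x = 1 → x ∈ D := by
    intro x hx h1
    obtain ⟨t, ht, htx⟩ := hD.eq_pow (j := a - 1) (by omega) _ (hsqD x hx) h1
    rw [show a - (a - 1) = 1 by omega, pow_one, sq] at htx
    have hu : x * t⁻¹ * (x * t⁻¹) = 1 := by
      rw [mul_assoc, ← mul_assoc t⁻¹ x, ← (hcenD x hx _ (inv_mem ht)).eq, ← mul_assoc, ← mul_assoc,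
        ← htx]
      group
    have h2 := hinvol _ (mul_mem hx (inv_mem (hDH ht))) hu
    simpa using mul_mem h2 ht
  have hq1 : q 1 = 1 := by simp [hq]
  have hqinv : ∀ x ∈ H, q x⁻¹ = q x := by
    intro x hx
    have h1 := hqmul x⁻¹ (inv_mem hx) x hx
    rw [inv_mul_cancel, hq1] at h1
    rw [eq_inv_of_mul_eq_one_left h1.symm, inv_eq_self (hW _ (hqW x hx))]
  have hsame : ∀ x ∈ H, ∀ z ∈ H, q x = q z → x⁻¹ * z ∈ D := by
    intro x hx z hz h1
    refine hker _ (mul_mem (inv_mem hx) hz) ?_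
    rw [hqmul _ (inv_mem hx) _ hz, hqinv x hx, h1, hW _ (hqW z hz)]
  intro x hx y hy
  by_contra hn
  have hqx : q x ≠ 1 := fun h => hn (hcenD y hy x (hker x hx h)).symm
  have hqy : q y ≠ 1 := fun h => hn (hcenD x hx y (hker y hy h))
  have hqxy : q x ≠ q y := fun h => hn (by
    have h1 := hcenD x hx _ (hsame x hx y hy h)
    have h2 := (Commute.refl x).mul_right h1
    rwa [mul_inv_cancel_left] at h2)
  -- `H` is generated by `D`, `x` and `y`
  have hgen : ∀ z ∈ H, z ∈ closure ((D : Set X) ∪ {x, y}) := by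
    intro z hz
    have hS : ∀ r ∈ closure ((D : Set X) ∪ {x, y}), r ∈ H → q r = q z → z ∈ closure ((D : Set X) ∪ {x, y}) := by
      intro r hr hrH h1
      have := mul_mem hr (subset_closure (Or.inl (hsame r hrH z hz h1)) :
        r⁻¹ * z ∈ closure ((D : Set X) ∪ {x, y}))
      rwa [mul_inv_cancel_left] at this
    have mx : x ∈ closure ((D : Set X) ∪ {x, y}) := subset_closure (by simp)
    have my : y ∈ closure ((D : Set X) ∪ {x, y}) := subset_closure (by simp)
    rcases mem_four hcard hW (hqW x hx) (hqW y hy) hqx hqy hqxy (hqW z hz) with h | h | h | h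
    · exact hS 1 (one_mem _) (one_mem _) (by rw [hq1, h])
    · exact hS x mx hx h.symm
    · exact hS y my hy h.symm
    · exact hS _ (mul_mem mx my) (mul_mem hx hy) (by rw [hqmul x hx y hy, h])
  set c := ⁅x, y⁆ with hc
  have hcW : c ∈ W := hcomm x hx y hy
  haveI : (zpowers c).Normal := normal_of_central fun w hw g => hWcen w (zpowers_le.mpr hcW hw) g
  have hall : ∀ u ∈ closure ((D : Set X) ∪ {x, y}), ∀ v ∈ closure ((D : Set X) ∪ {x, y}),
      ⁅u, v⁆ ∈ zpowers c := by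
    intro u hu v hv
    refine commutator_mem_of_gens ?_ hu hv
    have hmem : ∀ u ∈ ((D : Set X) ∪ {x, y}), u ∈ H := by
      rintro u (hu | rfl | rfl)
      exacts [hDH hu, hx, hy]
    intro u hu v hv
    rcases hu with hu | hu
    · rw [commutatorElement_eq_one_iff_commute.mpr (hcenD v (hmem v hv) u hu).symm]; exact one_mem _
    rcases hv with hv | hv
    · rw [commutatorElement_eq_one_iff_commute.mpr (hcenD u (hmem u (Or.inr hu)) v hv)]
      exact one_mem _
    simp only [Set.mem_insert_iff, Set.mem_singleton_iff] at hu hv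
    rcases hu with hu | hu <;> rcases hv with hv | hv <;> rw [hu, hv]
    · rw [commutatorElement_self]; exact one_mem _
    · exact mem_zpowers _
    · rw [← commutatorElement_inv]; exact inv_mem (mem_zpowers _)
    · rw [commutatorElement_self]; exact one_mem _
  have h1 := hall _ (hgen _ (hψH x hx)) _ (hgen _ (hψH y hy))
  rw [← map_commutatorElement, ← hc] at h1
  have hc1 : c ≠ 1 := fun h => hn (commutatorElement_eq_one_iff_commute.mp h)
  obtain ⟨i, hi⟩ := mem_zpowers_iff.mp h1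
  have hc2 : c ^ (2 : ℤ) = 1 := by rw [zpow_two, hW c hcW]
  rcases Int.even_or_odd i with ⟨k, hk⟩ | ⟨k, hk⟩
  · rw [hk, ← two_mul, zpow_mul, hc2, one_zpow] at hi
    exact hc1 (ψ.injective (by rw [← hi, map_one]))
  · rw [hk, zpow_add, zpow_mul, hc2, one_zpow, one_mul, zpow_one] at hi
    exact hc1 (hfix c hcW hi.symm)

end Cfsg.Agent.H91.Scn
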