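import Cfsg.Agent.H91.Scn.Four
import Cfsg.Agent.PGroups.TwoGroups

/-!
Centre of order two: the quaternion group, or order 32 with eleven involutions.
-/

set_option autoImplicit false

namespace Cfsg.Agent.H91.Scn

open Subgroup
open scoped commutatorElement

variable {X : Type*} [Group X] [Finite X] {A : Subgroup (MulAut X)} {W : Subgroup X}

namespace Struct

variable (S : Struct X W)
include S

theorem eq_of_ne_one (h2 : Nat.card W = 2) {w v : X} (hw : w ∈ W) (hv : v ∈ W) (hw1 : w ≠ 1)
    (hv1 : v ≠ 1) : v = w := by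
  have ho : orderOf w = 2 := by
    haveI : Fact (Nat.Prime 2) := ⟨Nat.prime_two⟩
    exact orderOf_eq_prime (by rw [_root_.sq, S.sqW w hw]) hw1
  have := eq_of_le_of_card_ge (zpowers_le.mpr hw) (by rw [Nat.card_zpowers, ho, h2])
  exact (((mem_zpowers_of_sq (S.sqW w hw)).mp (this ▸ hv))).resolve_left hv1

/-- The commutator with a noncentral element takes two values. -/
theorem index_centralizer (h2 : Nat.card W = 2) {u : X} (hu : u ∉ W) :
    (centralizer ({u} : Set X)).index = 2 := by
  obtain ⟨x₀, hx₀⟩ : ∃ x₀ : X, ⁅u, x₀⁆ ≠ 1 := by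
    by_contra hcon
    push Not at hcon
    exact hu (S.mem_of_central fun g => (commutatorElement_eq_one_iff_commute.mp (hcon g)).symm)
  rw [index_eq_two_iff]
  refine ⟨x₀, fun b => ?_⟩
  have hmem : ∀ g, g ∈ centralizer ({u} : Set X) ↔ ⁅u, g⁆ = 1 := fun g => by
    rw [mem_centralizer_singleton_iff, commutatorElement_eq_one_iff_commute]
    exact ⟨fun h => h.symm, fun h => h.symm⟩
  rw [hmem, hmem, comm_mul_right' S.cen S.sq]
  by_cases hb : ⁅u, b⁆ = 1
  · simp [hb, hx₀]
  · rw [S.eq_of_ne_one h2 (S.commW u x₀) (S.commW u b) hx₀ hb, S.sqW _ (S.commW u x₀)]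
    simp [hx₀]

/-- With `|W| = 2`, the elements of square one in the centraliser of a noncentral involution. -/
theorem mem_of_sq_one (c : Ctx X A) (h2 : Nat.card W = 2) {u v : X} (hu : u ∉ W) (hu2 : u * u = 1)
    (hv2 : v * v = 1) (huv : Commute u v) : v ∈ W ⊔ zpowers u := by
  by_contra hv
  have hH : ∀ t ∈ W ⊔ zpowers u, t * t = 1 ∧ Commute t v := by
    intro t ht
    haveI := S.normalW
    obtain ⟨w, hw, z, hz, rfl⟩ := mem_sup_of_normal_left.mp ht
    rcases (mem_zpowers_of_sq hu2).mp hz with rfl | rfl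
    · rw [mul_one]; exact ⟨S.sqW w hw, (S.cen w hw v).symm⟩
    · refine ⟨?_, (S.cen w hw v).symm.mul_left huv⟩
      rw [square_mul S.cen S.sq, S.sqW w hw, hu2, one_mul,
        commutatorElement_eq_one_iff_commute.mpr (S.cen w hw z), one_mul]
  have hab : IsMulCommutative ↥(W ⊔ zpowers u) := PGroups.isMulCommutative_sup_zpowers S.abW
    (mem_centralizer_iff.mpr fun w hw => (S.cen w hw u).symm.eq)
  have hab' : IsMulCommutative ↥(W ⊔ zpowers u ⊔ zpowers v) :=
    PGroups.isMulCommutative_sup_zpowers hab (mem_centralizer_iff.mpr fun t ht => (hH t ht).2.eq)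
  haveI := S.normal_of_le (le_sup_left : W ≤ W ⊔ zpowers u)
  have := c.small _ (S.normal_of_le (le_sup_left.trans le_sup_left)) hab' (fun t ht => by
    obtain ⟨s, hs, z, hz, rfl⟩ := mem_sup_of_normal_left.mp ht
    obtain ⟨hs2, hsv⟩ := hH s hs
    rcases (mem_zpowers_of_sq hv2).mp hz with rfl | rfl
    · rw [mul_one, _root_.sq, hs2]
    · rw [hsv.mul_pow, _root_.sq, _root_.sq, hs2, hv2, one_mul])
  rw [S.card_sup le_sup_left hv, S.card_sup le_rfl hu, h2] at this
  norm_num at this

theorem quaternion (h2 : Nat.card W = 2) (h8 : Nat.card X = 8)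
    (hno : ∀ x : X, x * x = 1 → x ∈ W) : Nonempty (X ≃* QuaternionGroup 2) := by
  obtain ⟨g, hg⟩ : ∃ g, g ∉ W := by
    by_contra hcon
    push Not at hcon
    have := card_le_of_le (show (⊤ : Subgroup X) ≤ W from fun g _ => hcon g)
    rw [card_top, h2, h8] at this
    norm_num at this
  have hg1 : g * g ≠ 1 := fun h => hg (hno g h)
  have hg4 : orderOf g = 2 * 2 := by
    haveI : Fact (Nat.Prime 2) := ⟨Nat.prime_two⟩
    rw [show 2 * 2 = 2 ^ (1 + 1) from rfl]
    refine orderOf_eq_prime_pow (by rw [pow_one, _root_.sq]; exact hg1) ?_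
    rw [pow_succ, pow_mul, pow_one, _root_.sq, _root_.sq, S.sqW _ (S.sq g)]
  obtain ⟨y, hy⟩ : ∃ y, y ∉ zpowers g := by
    by_contra hcon
    push Not at hcon
    have := card_le_of_le (show (⊤ : Subgroup X) ≤ zpowers g from fun t _ => hcon t)
    rw [card_top, h8, Nat.card_zpowers, hg4] at this
    norm_num at this
  have hWg : W ≤ zpowers g := fun w hw => by
    by_cases hw1 : w = 1
    · rw [hw1]; exact one_mem _
    · rw [S.eq_of_ne_one h2 (S.sq g) hw hg1 hw1]
      exact mul_mem (mem_zpowers g) (mem_zpowers g)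
  have hy1 : y * y ≠ 1 := fun h => hy (hWg (hno y h))
  have hyy : y * y = g * g := S.eq_of_ne_one h2 (S.sq g) (S.sq y) hg1 hy1
  refine PGroups.nonempty_mulEquiv_quaternion (n := 2) hg4 hy (by rw [_root_.sq, _root_.sq, hyy]) ?_
    (by rw [h8])
  have hne : ⁅y, g⁆ ≠ 1 := fun h => by
    have hc : Commute y g⁻¹ := (commutatorElement_eq_one_iff_commute.mp h).inv_right
    have h1 : y * g⁻¹ * (y * g⁻¹) = 1 := by
      rw [← _root_.sq, hc.mul_pow, _root_.sq, _root_.sq, hyy]; group
    exact hy (by simpa using mul_mem (hWg (hno _ h1)) (mem_zpowers g))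
  have h1 := S.eq_of_ne_one h2 (S.sq g) (S.commW y g) hg1 hne
  have h2' : g * g * g = g⁻¹ := eq_inv_of_mul_eq_one_left (by
    calc g * g * g * g = g * g * (g * g) := by group
      _ = 1 := S.sqW _ (S.sq g))
  rw [← h2', ← h1, commutatorElement_def]
  group

/-- Centre of order two. -/
theorem result_two (c : Ctx X A) (h2 : Nat.card W = 2) : Nonempty (X ≃* QuaternionGroup 2) ∨
    (Nat.card X = 32 ∧ Nat.card {x : X // orderOf x = 2} = 11) := by
  classical
  haveI := Fintype.ofFinite X
  haveI : Fact (Nat.Prime 2) := ⟨Nat.prime_two⟩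
  obtain ⟨k, hk⟩ := IsPGroup.iff_card.mp c.two
  have hcardX : (Fintype.card X : ℤ) = 2 ^ k := by
    rw [← Nat.card_eq_fintype_card, hk]; push_cast; rfl
  have hk2 : 2 ≤ k := by
    obtain ⟨x, hx⟩ : ∃ x, x ∉ W := by
      by_contra hcon
      push Not at hcon
      exact c.nonab ⟨⟨fun a b => (S.cen b (hcon b) a).eq⟩⟩
    have h1 := Subgroup.card_le_card_group (W ⊔ zpowers x)
    rw [S.card_sup le_rfl hx, h2, hk] at h1
    exact (Nat.pow_le_pow_iff_right (show 1 < 2 by norm_num)).mp h1
  -- the Gauss sum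
  set N := (Finset.univ.filter fun x : X => x * x = 1).card with hN
  set T := ∑ x : X, sgn (⊥ : Subgroup X) (x * x) with hT
  have hsign : ∀ s : Finset X, ∑ x ∈ s, sgn (⊥ : Subgroup X) (x * x) =
      2 * ((s.filter fun x => x * x = 1).card : ℤ) - s.card := fun s => by
    simp only [sgn, mem_bot]
    rw [Finset.sum_ite, Finset.sum_const, Finset.sum_const]
    have := Finset.card_filter_add_card_filter_not (s := s) (fun x => x * x = 1)
    simp only [nsmul_eq_mul, mul_one, mul_neg]
    omega
  have hTN : T = 2 * (N : ℤ) - 2 ^ k := by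
    rw [hT, hsign, Finset.card_univ, hcardX]
  have hT2 : T ^ 2 = 2 ^ k * 2 := by
    rw [hT, sum_sgn_sq S.cen S.sq (Z := ⊥) (fun w hw v hv h1 h3 => by
      rw [mem_bot] at h1 h3 ⊢
      rw [S.eq_of_ne_one h2 hw hv h1 h3, S.sqW w hw]), hcardX]
    congr 1
    have hiff : ∀ y : X, (∀ x, sgn (⊥ : Subgroup X) ⁅y, x⁆ = 1) ↔ y ∈ W := by
      intro y
      simp only [sgn, mem_bot]
      refine ⟨fun h => S.mem_of_central fun g => ?_, fun h x => ?_⟩
      · have := h g
        split_ifs at this with h'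
        exact (commutatorElement_eq_one_iff_commute.mp h').symm
      · rw [if_pos (commutatorElement_eq_one_iff_commute.mpr (S.cen y h x).symm)]
    simp only [hiff]
    rw [← Finset.sum_filter, Finset.sum_congr rfl fun y hy => show sgn (⊥ : Subgroup X) (y * y) = 1 by
      rw [S.sqW y (Finset.mem_filter.mp hy).2, sgn_one]]
    rw [Finset.sum_const, ← Fintype.card_subtype, ← Nat.card_eq_fintype_card,
      show Nat.card {x : X // x ∈ W} = 2 from h2]
    norm_num
  obtain ⟨j, hj, hTj⟩ : ∃ j, k + 1 = 2 * j ∧ (T = 2 ^ j ∨ T = -2 ^ j) := by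
    have h1 : T.natAbs ^ 2 = 2 ^ (k + 1) := by
      have h := congrArg Int.natAbs hT2
      rw [Int.natAbs_pow, Int.natAbs_mul, Int.natAbs_pow] at h
      rw [pow_succ 2 k]
      simpa using h
    obtain ⟨j, -, hj⟩ := (Nat.dvd_prime_pow Nat.prime_two).mp (h1 ▸ dvd_pow_self T.natAbs (by norm_num))
    refine ⟨j, ?_, ?_⟩
    · rw [hj, ← pow_mul] at h1
      have := Nat.pow_right_injective (le_refl 2) h1
      omega
    · rcases Int.natAbs_eq T with h | h
      · left; rw [h, hj]; push_cast; rfl
      · right; rw [h, hj]; push_cast; rfl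
  have hk' : k = 2 * j - 1 := by omega
  have hinv : Nat.card {x : X // orderOf x = 2} = N - 1 := by
    have h1 : ∀ x : X, orderOf x = 2 ↔ x * x = 1 ∧ x ≠ 1 := fun x => by
      rw [orderOf_eq_prime_iff, _root_.sq]
    rw [Nat.card_eq_fintype_card, Fintype.card_subtype,
      show (Finset.univ.filter fun x : X => orderOf x = 2) =
        (Finset.univ.filter fun x : X => x * x = 1).erase 1 by ext x; simp [h1, and_comm],
      Finset.card_erase_of_mem (by simp), hN]
  by_cases hno : ∀ x : X, x * x = 1 → x ∈ W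
  · left
    have hN2 : N = 2 := by
      rw [hN, ← h2, Nat.card_eq_fintype_card, Fintype.card_subtype]
      congr 1
      ext x
      simp only [Finset.mem_filter, Finset.mem_univ, true_and]
      exact ⟨hno x, S.sqW x⟩
    have hj2 : j = 2 := by
      by_contra h
      obtain ⟨i, rfl⟩ : ∃ i, j = i + 3 := ⟨j - 3, by omega⟩
      have e : (2 : ℤ) ^ k = 4 * 2 ^ i * 2 ^ (i + 3) := by
        rw [show k = 2 + i + (i + 3) by omega, pow_add, pow_add]; norm_num
      have hp : (1 : ℤ) ≤ 2 ^ i := one_le_pow₀ (by norm_num)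
      have hq : (8 : ℤ) ≤ 2 ^ (i + 3) := by rw [pow_add]; norm_num; omega
      rw [hN2, e] at hTN
      rcases hTj with h' | h' <;> rw [h'] at hTN <;> push_cast at hTN <;> nlinarith
    refine S.quaternion h2 ?_ hno
    rw [hk, hk', hj2]
    norm_num
  push Not at hno
  obtain ⟨u, hu2, hu⟩ := hno
  set C := centralizer ({u} : Set X) with hC
  have hCi := S.index_centralizer h2 hu
  set NC := (Finset.univ.filter fun x : X => x ∈ C ∧ x * x = 1).card with hNC
  have hout : ∑ x ∈ Finset.univ.filter (fun x : X => x ∉ C), sgn (⊥ : Subgroup X) (x * x) = 0 := by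
    have hmemC : ∀ x, x ∉ C → x * u ∉ C := fun x hx h => hx (by
      simpa using mul_mem h (inv_mem (mem_centralizer_singleton_iff.mpr rfl : u ∈ C)))
    refine Finset.sum_involution (fun x _ => x * u) (fun x hx => ?_) (fun x _ _ h => ?_)
      (fun x hx => ?_) (fun x _ => ?_)
    · have hx' : ⁅u, x⁆ ≠ 1 := fun h => (Finset.mem_filter.mp hx).2 (mem_centralizer_singleton_iff.mpr
        (commutatorElement_eq_one_iff_commute.mp h).symm.eq)
      rw [square_mul S.cen S.sq x u, hu2, mul_one,
        sgn_mul (W := W) (Z := ⊥) (fun w hw v hv h1 h3 => by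
          rw [mem_bot] at h1 h3 ⊢
          rw [S.eq_of_ne_one h2 hw hv h1 h3, S.sqW w hw]) (S.sq x) (S.commW u x)]
      simp [sgn, hx']
    · exact hu (by rw [mul_eq_left.mp h]; exact one_mem W)
    · exact Finset.mem_filter.mpr ⟨Finset.mem_univ _, hmemC x (Finset.mem_filter.mp hx).2⟩
    · simp only [mul_assoc, hu2, mul_one]
  have hTC : T = 2 * (NC : ℤ) - (Nat.card C : ℤ) := by
    rw [hT, ← Finset.sum_filter_add_sum_filter_not Finset.univ (fun x : X => x ∈ C), hout, add_zero,
      hsign, Finset.filter_filter, Nat.card_eq_fintype_card, Fintype.card_subtype]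
  have hNC4 : NC ≤ 4 := by
    have h4 : Nat.card ↥(W ⊔ zpowers u) = 4 := by rw [S.card_sup le_rfl hu, h2]
    rw [hNC, ← h4, Nat.card_eq_fintype_card, Fintype.card_subtype]
    refine Finset.card_le_card fun x hx => ?_
    obtain ⟨hxC, hx2⟩ := (Finset.mem_filter.mp hx).2
    exact Finset.mem_filter.mpr ⟨Finset.mem_univ _,
      S.mem_of_sq_one c h2 hu hu2 hx2 (mem_centralizer_singleton_iff.mp hxC : _).symm⟩
  have hCc : (Nat.card C : ℤ) * 2 = 2 ^ k := by
    have h := C.card_mul_index
    rw [hCi, hk] at h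
    exact_mod_cast h
  have hN3 : 3 ≤ N := by
    obtain ⟨w, hw, hw1⟩ : ∃ w ∈ W, w ≠ 1 := by
      by_contra hcon
      push Not at hcon
      rw [eq_bot_iff_forall W |>.mpr hcon, card_bot] at h2
      omega
    rw [hN, ← show ({1, w, u} : Finset X).card = 3 by
      rw [Finset.card_insert_of_notMem, Finset.card_pair]
      · exact fun h => hu (h ▸ hw)
      · simp only [Finset.mem_insert, Finset.mem_singleton, not_or]
        exact ⟨Ne.symm hw1, fun h => hu (h ▸ one_mem W)⟩]
    refine Finset.card_le_card fun x hx => ?_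
    simp only [Finset.mem_insert, Finset.mem_singleton] at hx
    rcases hx with rfl | rfl | rfl
    · simp
    · simp [S.sqW x hw]
    · simp [hu2]
  have hj23 : j = 2 ∨ j = 3 := by
    by_contra h
    obtain ⟨i, rfl⟩ : ∃ i, j = i + 4 := ⟨j - 4, by omega⟩
    have e : (2 : ℤ) ^ k = 8 * 2 ^ i * 2 ^ (i + 4) := by
      rw [show k = 3 + i + (i + 4) by omega, pow_add, pow_add]; norm_num
    have hp : (1 : ℤ) ≤ 2 ^ i := one_le_pow₀ (by norm_num)
    have hq : (16 : ℤ) ≤ 2 ^ (i + 4) := by rw [pow_add]; norm_num; omega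
    have hNC4' : (NC : ℤ) ≤ 4 := by exact_mod_cast hNC4
    rcases hTj with h' | h' <;> rw [h'] at hTC <;> nlinarith
  rcases hj23 with rfl | rfl
  · exfalso
    rw [show k = 3 by omega] at hTN hcardX
    norm_num at hTj hTN hcardX
    have hN6 : N = 6 := by omega
    have hbad : (Finset.univ.filter fun x : X => ¬ x * x = 1).card = 2 := by
      have := Finset.card_filter_add_card_filter_not (s := Finset.univ) (fun x : X => x * x = 1)
      rw [Finset.card_univ] at this
      omega
    obtain ⟨g, hg⟩ := Finset.card_pos.mp (by rw [hbad]; norm_num :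
      0 < (Finset.univ.filter fun x : X => ¬ x * x = 1).card)
    have hg1 : g * g ≠ 1 := (Finset.mem_filter.mp hg).2
    have hpair : ∀ x : X, x * x ≠ 1 → x ∈ zpowers g := by
      intro x hx
      have hne : g ≠ g⁻¹ := fun h => hg1 (by nth_rewrite 2 [h]; rw [mul_inv_cancel])
      have he := Finset.eq_of_subset_of_card_le (s := ({g, g⁻¹} : Finset X))
        (t := Finset.univ.filter fun x : X => ¬ x * x = 1) (fun t ht => by
          simp only [Finset.mem_insert, Finset.mem_singleton] at ht
          refine Finset.mem_filter.mpr ⟨Finset.mem_univ _, ?_⟩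
          rcases ht with rfl | rfl
          · exact hg1
          · rwa [← mul_inv_rev, inv_eq_one]) (by rw [hbad, Finset.card_pair hne])
      have : x ∈ ({g, g⁻¹} : Finset X) := he ▸ Finset.mem_filter.mpr ⟨Finset.mem_univ _, hx⟩
      simp only [Finset.mem_insert, Finset.mem_singleton] at this
      rcases this with rfl | rfl
      exacts [mem_zpowers _, inv_mem (mem_zpowers _)]
    have hg4 : orderOf g = 2 ^ (1 + 1) := by
      refine orderOf_eq_prime_pow (by rw [pow_one, _root_.sq]; exact hg1) ?_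
      rw [pow_succ, pow_mul, pow_one, _root_.sq, _root_.sq, S.sqW _ (S.sq g)]
    have hBi : (zpowers g).index = 2 := by
      have h1 := (zpowers g).card_mul_index
      rw [Nat.card_zpowers, hg4, hk, show k = 3 by omega] at h1
      omega
    refine c.false_of_index_two hBi fun φ _ b hb => ?_
    obtain ⟨i, rfl⟩ := mem_zpowers_iff.mp hb
    rw [map_zpow]
    refine zpow_mem (hpair _ fun h => hg1 (φ.injective ?_)) i
    rw [map_mul, h, map_one]
  · right
    rw [show k = 5 by omega] at hTN hCc hk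
    norm_num at hTj hTN
    have hC16 : (Nat.card C : ℤ) = 16 := by linarith
    have hNC4' : (NC : ℤ) ≤ 4 := by exact_mod_cast hNC4
    refine ⟨by rw [hk]; norm_num, ?_⟩
    rw [hinv]
    omega

end Struct

end Cfsg.Agent.H91.Scn
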